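import Cfsg.Agent.Mrg.Omega.HTwo.AlphaP
import Cfsg.Agent.Mrg.Omega.HTwo.EntryTv
import Cfsg.Agent.Mrg.Omega.HOneTwo.TwoFourTS
import Cfsg.Agent.Mrg.Omega.HOneTwo.TwoPartC
import Cfsg.Agent.Mrg.Omega.HOne.PairP
import Cfsg.Agent.Mrg.Omega.HOne.TvTail
import Cfsg.Agent.Mrg.Omega.HOneTwo.Basic
import Cfsg.Agent.Lib.GoldschmidtFusion

-- merged: Cfsg.Agent.Mrg.Omega.HT.Sig
section

/-!
# II.0h1, `q = 2`, over a 2-group `S` : the element `c` of the JUNCTION (#17185 (A), (B))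

* `Sig V R o c` : the stabiliser `Σ` of `V Z(Q o)` in `N(R o)` fixes `v c R o` for `v ∈ V ∖ R o`;
* `exists_sig` : if `⟨V^{M₀}⟩ ≤ Q o`, then `Sig V R o c` for some `c ∈ Z₀ = C_{Ω₁Z(S)}(P)`;
* `Sig.comm` : `N(V) ∩ N(R o)` centralises `c`;
* `Sig.norm` : `g ∈ Σ ∩ C(c)` implies `g ∈ N(V)`.
-/

set_option autoImplicit false
set_option linter.unusedSectionVars false

namespace Cfsg.Agent.Omega.HT

open Subgroup Cfsg Cfsg.Agent.MinSimple.VModule Cfsg.Agent.Omega.BTwo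
open Cfsg.Agent.Omega.HOneTwo Cfsg.Agent.Omega.HTwo Cfsg.Agent.Omega.HTwo.ThmA Cfsg.Agent.Omega.HTwo.Par
open Cfsg.Agent.Omega.HTwo.Hat Cfsg.Agent.Omega.HTwo.TComp Cfsg.Agent.Omega.MinPar
open Cfsg.Agent.ZN (zc o2 le_normalizer_o2)
open Cfsg.Agent.Omega.TV (GSys)
open Cfsg.Agent.Omega.HT.Two Cfsg.Agent.Omega.HT.JunAB

universe u

variable {G : Type u} [Group G] {ι : Type*}

/-- `Σ` fixes `v c R o` for `v ∈ V ∖ R o` -/
def Sig (V : Subgroup G) (R : ι → Subgroup G) (o : ι) (c : G) : Prop :=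
  ∀ g ∈ normalizer (R o : Set G), (∀ v ∈ V, g * v * g⁻¹ ∈ V ⊔ ZQ R o) → ∀ v ∈ V, v ∉ R o →
    (v * c)⁻¹ * g * (v * c) * g⁻¹ ∈ R o

variable [Finite G] {S P V : Subgroup G} {R : ι → Subgroup G} {o : ι} (b : HTT S P V R o)
include b

/-- **(A), (B)** -/
theorem exists_sig {r : G} (hr : ∀ x, x ∈ R o ↔ x = 1 ∨ x = r) (hLE : ∀ i, ThmA.LE V R i)
    (hch : GSys (MZ S V R) (cl (R o) (MZ S V R)) r) {z₀ : G}
    (hz₀ : z₀ ∈ zc S ⊓ centralizer (P : Set G)) (hz₀1 : z₀ ≠ 1)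
    (hα : UM V (MZ S V R) ≤ QQ (R o)) : ∃ c ∈ zc S ⊓ centralizer (P : Set G), Sig V R o c := by
  have hNr := fun g => mem_N_iff b hr (g := g)
  obtain ⟨j, k, hj, hk, hjk⟩ := b.one_lt
  obtain ⟨r₂, h21, h22, h2⟩ := b.exists_gen j
  have h2j : r₂ ∈ R j := (h2 _).2 (Or.inr rfl)
  have h2V := b.R_le j h2j
  obtain ⟨c, hc, H⟩ := exists_avg b hr hj h2j h21 hLE
  have hVn : ∀ a ∈ normalizer (V : Set G), ∀ v ∈ V, a * v * a⁻¹ ∈ V ⊔ ZQ R o := fun a ha v hv =>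
    mem_sup_left (conj_mem_of_normalizer ha hv)
  obtain ⟨a, ha, hac⟩ := mem_of_alpha b hr hLE hch hz₀ hz₀1 hα hc fun g hgV hgR =>
    fix_c b hr hj h2j h21 hc hgV hgR (H g hgR (hVn g hgV))
  have hZ := mem_zc_of b hr hLE hac (by
    intro s hs
    have h3 := fix_c b hr hj h2j h21 hc (b.S_V hs) (b.S_R hs) (H s (b.S_R hs) (hVn s (b.S_V hs)))
    have e : s * (a * c) * s⁻¹ * (a * c)⁻¹ = (s * a * s⁻¹) * (s * c * s⁻¹ * c⁻¹) * a⁻¹ := by group
    rw [e]
    exact mul_mem (mul_mem (conj_mem_of_normalizer (b.S_R hs) ha) h3) (inv_mem ha))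
  refine ⟨a * c, hZ, fun g hg hgV v hv hvo => ?_⟩
  have hcN : c ∈ normalizer (R o : Set G) := b.Q_le o (ZQ_le o hc)
  have hρ : r₂⁻¹ * v ∈ R o := (mem_V b hr hj h2j h21 hv).resolve_left hvo
  obtain ⟨ρ, hρe⟩ : ∃ ρ, ρ = r₂⁻¹ * v * a := ⟨_, rfl⟩
  have hρR : ρ ∈ R o := by rw [hρe]; exact mul_mem hρ ha
  have hcρ : c * ρ = ρ * c := by
    rcases (hr ρ).1 hρR with h | h
    · rw [h, one_mul, mul_one]
    · rw [h]; exact (hNr c).1 hcN
  have e1 : v * (a * c) = r₂ * c * ρ := by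
    rw [mul_assoc r₂, hcρ, hρe]; group
  rw [e1]
  have h3 := H g hg hgV
  have e2 : (r₂ * c * ρ)⁻¹ * g * (r₂ * c * ρ) * g⁻¹ = ρ⁻¹ * ((r₂ * c)⁻¹ * g * (r₂ * c) * g⁻¹) * (g * ρ * g⁻¹) := by
    group
  rw [e2]
  exact mul_mem (mul_mem (inv_mem hρR) h3) (conj_mem_of_normalizer hg hρR)

/-- `Σ ∩ C(c) ≤ N(V)` -/
theorem Sig.norm {r : G} (hr : ∀ x, x ∈ R o ↔ x = 1 ∨ x = r) {c : G}
    (hc : c ∈ zc S ⊓ centralizer (P : Set G)) (h : Sig V R o c) {g : G} (hg : g ∈ normalizer (R o : Set G))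
    (hgc : g * c = c * g) (hgV : ∀ v ∈ V, g * v * g⁻¹ ∈ V ⊔ ZQ R o) : g ∈ normalizer (V : Set G) := by
  have hNr := fun g => mem_N_iff b hr (g := g)
  refine mem_normalizer_of_conj fun v hv => ?_
  by_cases hvo : v ∈ R o
  · exact b.R_le o (conj_mem_of_normalizer hg hvo)
  have h1 := h g hg hgV v hv hvo
  have hvc : v * c = c * v := by
    have h2 : c ∈ centralizer (V : Set G) := (b.toBTS.CenX_le_cen) (b.cz_le hc)
    exact mem_centralizer_iff.1 h2 v hv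
  have h2 : v⁻¹ * g * v * g⁻¹ ∈ R o := by
    have hcN : c ∈ normalizer (R o : Set G) := b.Q_le o (ZQ_le o (zc_le_ZQ b hr hc.1))
    have h3 := conj_mem_of_normalizer hcN h1
    have e2 : c * g⁻¹ = g⁻¹ * c := by
      rw [eq_inv_mul_iff_mul_eq, ← mul_assoc, hgc, mul_inv_cancel_right]
    have e : c * ((v * c)⁻¹ * g * (v * c) * g⁻¹) * c⁻¹ = v⁻¹ * g * v * g⁻¹ := by
      calc c * ((v * c)⁻¹ * g * (v * c) * g⁻¹) * c⁻¹ = v⁻¹ * g * v * (c * g⁻¹) * c⁻¹ := by group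
        _ = v⁻¹ * g * v * g⁻¹ := by rw [e2]; group
    rwa [e] at h3
  have e : g * v * g⁻¹ = v * (v⁻¹ * g * v * g⁻¹) := by group
  rw [e]
  exact mul_mem hv (b.R_le o h2)

/-- `N(V) ∩ N(R o)` centralises `c` -/
theorem Sig.comm {r : G} (hr : ∀ x, x ∈ R o ↔ x = 1 ∨ x = r) {c : G}
    (hc : c ∈ zc S ⊓ centralizer (P : Set G)) (h : Sig V R o c) {g : G} (hg : g ∈ normalizer (R o : Set G))
    (hgV : g ∈ normalizer (V : Set G)) : g * c = c * g := by
  obtain ⟨j, k, hj, hk, hjk⟩ := b.one_lt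
  obtain ⟨r₂, h21, h22, h2⟩ := b.exists_gen j
  have h2j : r₂ ∈ R j := (h2 _).2 (Or.inr rfl)
  have h2V := b.R_le j h2j
  have hcZ := zc_le_ZQ b hr hc.1
  have h2o : r₂ ∉ R o := fun hh => h21 (b.eq_one hj h2j hh)
  have h3 := fix_c b hr hj h2j h21 hcZ hgV hg
    (h g hg (fun v hv => mem_sup_left (conj_mem_of_normalizer hgV hv)) r₂ h2V h2o)
  have hcX : c ∈ CenX V R := b.cz_le hc
  have h4 : g * c * g⁻¹ * c⁻¹ ∈ CenX V R :=
    mul_mem (conj_mem_of_normalizer (b.NV_le_NCenX hgV) hcX) (inv_mem hcX)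
  have h5 := b.toBTS.cen_VX (b.R_le o h3) h4
  exact mul_inv_eq_iff_eq_mul.1 (mul_inv_eq_one.1 h5)

end Cfsg.Agent.Omega.HT

end

-- merged: Cfsg.Agent.Mrg.Omega.HT.Main
section

section


/-!
# II.0h1, `q = 2`, over a 2-group `S` of odd index in `N(R o)`: the end

`Z₀ = C_{Ω₁Z(S)}(P)`, `M₀ = ⟨C(Ω₁Z(S)), X⟩`, `M_z = ⟨C(r) ∩ C(z), X⟩`, `U_z = ⟨r^{M_z}⟩`.

* `eq_of_ts` : TS(z) implies `Z₀ = {1, z}` (THEOREM Z', #17321, helper766);
* `main` : `|Z₀| ≤ 2`, if `2 ∤ |M₀ : S|` and for every `c ∈ Z₀` with `Sig V R o c` there is `z ∈ Z₀#`, `z = c` or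
  `c = 1`, with `O₂(M_z / C(U_z)) = 1` and `¬ U_z ≤ Q o`.
-/

set_option autoImplicit false
set_option linter.unusedSectionVars false

namespace Cfsg.Agent.Omega.HT.Main

open Subgroup Cfsg Cfsg.Agent.ZN Cfsg.Agent.Omega.BTwo Cfsg.Agent.Omega.HT Cfsg.Agent.Omega.HT.EntryTv
open Cfsg.Agent.Omega.HT.EntryTs
open Cfsg.Agent.Omega.HTwo.Hat Cfsg.Agent.Omega.HTwo.ThmA Cfsg.Agent.Omega.MinPar
open Cfsg.Agent.Omega.HOne.TvDef
open Cfsg.Agent.Omega.HTwo.EntryTv (QF NF ME QF_conj NF_conj NF_base NF_gen cen_zpowers ME_z)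
open Cfsg.Agent.Omega.HTwo.AlphaP (MP)
open Cfsg.Agent.Omega.HOneTwo

universe u

variable {G : Type u} [Group G] [Finite G] {ι : Type*} {S P V : Subgroup G}
  {R : ι → Subgroup G} {o : ι}

/-- `O₂(M / C_M(U)) = 1` for `M = ME V R o ⟨z⟩ = ⟨C(r) ∩ C(z), X⟩`, `U = ⟨r^M⟩` -/
def Core (V : Subgroup G) (R : ι → Subgroup G) (o : ι) (r z : G) : Prop :=
  ∀ B : Subgroup G, B ≤ ME V R o (zpowers z) → (∀ m ∈ ME V R o (zpowers z), ∀ b ∈ B, m * b * m⁻¹ ∈ B) →
    (∀ b ∈ B, ∀ u ∈ UU (ME V R o (zpowers z)) r, b * b * u = u * (b * b)) →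
    ∀ b ∈ B, ∀ u ∈ UU (ME V R o (zpowers z)) r, b * u = u * b

section plug

variable (b : HTT S P V R o) (hLE : ∀ i, LE V R i) {r z : G} (hr : ∀ x, x ∈ R o ↔ x = 1 ∨ x = r) (hr1 : r ≠ 1)
include b

/-- `⟨r^{C(f)}⟩` is abelian for `f ∈ Z₀#` -/
theorem gen_comm {f : G} (hf : f ∈ zc S ⊓ centralizer (P : Set G)) (hf1 : f ≠ 1) (hr : r ∈ R o) {x y : G}
    (hx : x ∈ Trans.gen f r) (hy : y ∈ Trans.gen f r) : x * y = y * x := by
  have hle : Trans.gen f r ≤ UM V (centralizer ({f} : Set G)) := by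
    unfold Trans.gen
    rw [closure_le]
    rintro _ ⟨m, hm, rfl⟩
    exact cj_le_cl (mem_centralizer_singleton_iff.2 hm) (conj_mem_cj (b.R_le o hr))
  exact (b.dt hf hf1).U_comm (hle hx) (hle hy)

/-- `O₂(C_M(U))`-argument: a 2-subgroup of `Q p ∩ C(U)`, `p ∈ r^M`, lies in `S` -/
theorem mem_S_of {M : Subgroup G} (hSM : S ≤ M) (hr : ∀ x, x ∈ R o ↔ x = 1 ∨ x = r)
    (hMU : ∀ m ∈ M, ∀ u ∈ UU M r, m * u * m⁻¹ ∈ UU M r) {p y : G} (hp : p ∈ Om M r) (hyp : y ∈ QF p)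
    (hyM : y ∈ M) (hyU : ∀ u ∈ UU M r, y * u = u * y) : y ∈ S := by
  -- `C = C_M(U)`
  obtain ⟨C, hC⟩ : ∃ C, C = M ⊓ centralizer (UU M r : Set G) := ⟨_, rfl⟩
  have hMN : M ≤ normalizer (UU M r : Set G) := by
    intro m hm
    exact BTwo.mem_normalizer_of_conj fun u hu => hMU m hm u hu
  have hMC : M ≤ normalizer (C : Set G) := by
    intro m hm
    rw [hC, ← cj_eq_self_iff, cj_inf, cj_of_mem hm,
      cj_eq_self_iff.2 (normalizer_le_normalizer_centralizer _ (hMN hm))]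
  have hpU : p ∈ UU M r := Om_le_UU hp
  have hrU : r ∈ UU M r := Om_le_UU Om_base
  have hCp : C ≤ centralizer ({p} : Set G) := by
    rw [hC]
    intro x hx
    exact mem_centralizer_singleton_iff.2 (mem_centralizer_iff.1 hx.2 p hpU).symm
  have hCr : C ≤ normalizer (R o : Set G) := by
    rw [normalizer_eq b hr, hC]
    intro x hx
    exact mem_centralizer_singleton_iff.2 (mem_centralizer_iff.1 hx.2 r hrU).symm
  -- `B = Q p ∩ C ≤ O₂(C)`
  have hQp : IsPGroup 2 (QF p) := O2_isPGroup _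
  have hB : QF p ⊓ C ≤ o2 C := by
    refine MinSimple.VModule.le_o2 inf_le_right (hQp.to_le inf_le_left) ?_
    intro c hc
    rw [← cj_eq_self_iff, cj_inf, cj_of_mem hc]
    congr 1
    exact cj_eq_self_iff.2 (le_normalizer_O2 (centralizer ({p} : Set G)) (hCp hc))
  have hO : o2 C ≤ S := by
    refine le_S_of_norm b (MinSimple.VModule.o2_isPGroup C) ((MinSimple.VModule.o2_le C).trans hCr) ?_
    exact (hSM.trans hMC).trans (normalizer_le_normalizer_o2 C)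
  refine hO (hB ⟨hyp, ?_⟩)
  rw [hC]
  exact mem_inf.2 ⟨hyM, mem_centralizer_iff.2 fun u hu => (hyU u hu).symm⟩

variable (hz : z ∈ zc S ⊓ centralizer (P : Set G)) (hz1 : z ≠ 1)

include hLE hr hr1 hz hz1 in
/-- **THEOREM Z'** : TS(z) implies `Z₀ = {1, z}` -/
theorem eq_of_ts {j : ι} (hj : j ≠ o) {t : G} (ht : ∀ x, x ∈ R j ↔ x = 1 ∨ x = t) (ht1 : t ≠ 1)
    (hα : ¬ UM V (MP V R o z) ≤ QQ (R o))
    (hpar : ∀ x y, Adj (ME V R o (zpowers z)) r t r x → Adj (ME V R o (zpowers z)) r t r y →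
      x * y ∈ ZC QF r → y = x ∨ y = r * x) (ho2 : Core V R o r z) {x : G}
    (hx : x ∈ zc S ⊓ centralizer (P : Set G)) : x = 1 ∨ x = z := by
  obtain ⟨D, hD⟩ : ∃ D, D = tsOf hj ht ht1 b hLE hr hr1 hz hz1 hα hpar ho2 := ⟨_, rfl⟩
  have er : D.r 0 = r := by rw [hD]; rfl
  have eM : D.M = ME V R o (zpowers z) := by rw [hD]; rfl
  have ez : D.z = z := by rw [hD]; rfl
  have eQ : D.Q = QF := by rw [hD]; rfl
  have eC : D.C = ZC QF r ⊓ ZC QF t := by rw [hD]; rfl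
  have eU : D.U = UU (ME V R o (zpowers z)) r := by
    show Trans.gn D.M (D.r 0) = _
    rw [eM, er]; exact Trans.gn_eq_UU _ _
  have eΔ : D.Δ = Om (ME V R o (zpowers z)) r := by
    show Trans.Dl D.M (D.r 0) = _
    rw [eM, er]; exact Trans.Dl_eq_Om _ _
  have hE : zpowers z ≤ zc S ⊓ centralizer (P : Set G) := zpowers_le_cz hz
  have hE1 : zpowers z ≠ ⊥ := fun h => hz1 (zpowers_eq_bot.1 h)
  have hrR : r ∈ R o := (hr r).2 (Or.inr rfl)
  have hSM : S ≤ ME V R o (zpowers z) := S_le_ME b hE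
  have hMU : ∀ m ∈ ME V R o (zpowers z), ∀ u ∈ UU (ME V R o (zpowers z)) r,
      m * u * m⁻¹ ∈ UU (ME V R o (zpowers z)) r := fun m hm u hu => M_norm_UU b hr hr1 hE hm hu
  have hxS : ∀ s ∈ S, x * s = s * x := fun s hs => ((mem_zc.1 hx.1).2.1 s hs).symm
  -- `U ≤ S`
  have hUS : UU (ME V R o (zpowers z)) r ≤ S := by
    refine le_S_of_norm b (UU_pgroup b hr hr1 hE hE1) ?_ ?_
    · rw [normalizer_eq b hr]
      intro u hu
      exact mem_centralizer_singleton_iff.2 (UU_comm b hr hr1 hE hE1 hu (Om_le_UU Om_base))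
    · intro s hs
      exact BTwo.mem_normalizer_of_conj fun u hu => hMU s (hSM hs) u hu
  have hQr : D.Q (D.r 0) = O2 (centralizer ({D.r 0} : Set G)) := by rw [eQ, er]; rfl
  have h1 := HT.ThmZ.thmZ D ?_ ?_ (c := x) ?_ ?_ ?_ ?_
  · rwa [ez] at h1
  · -- `O₂(H₁ / C(N₁)) = 1`
    intro B hBA hBn hsq y hy u hu
    have hBA' : B ≤ normalizer (R o : Set G) := by
      rw [normalizer_eq b hr, ← er]; exact hBA
    have eN : NF r (zpowers z) r = Trans.gen (D.r 0) D.z := by rw [er, ez]; exact NF_gen r z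
    have h2 : B ≤ centralizer (NF r (zpowers z) r : Set G) := by
      refine hred b hr hr1 hE B hBA' ?_ ?_
      · intro g hg
        refine BTwo.mem_normalizer_of_conj fun w hw => hBn g ?_ w hw
        show g ∈ centralizer ({D.r 0} : Set G)
        rw [er, ← normalizer_eq b hr]; exact hg
      · intro w hw
        refine ⟨1, ?_⟩
        rw [pow_one, pow_two, mem_centralizer_iff, eN]
        exact fun u hu => (hsq w hw u hu).symm
    have h3 := mem_centralizer_iff.1 (h2 hy) u (by rw [eN]; exact hu)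
    exact h3.symm
  · -- Baer-Suzuki
    intro u hu huQ
    by_contra hcon
    push Not at hcon
    apply huQ
    rw [hQr]
    have hur : u ∈ centralizer ({D.r 0} : Set G) := mem_centralizer_singleton_iff.2 (D.U_r hu)
    have : Fact (Nat.Prime 2) := ⟨Nat.prime_two⟩
    refine ⟨⟨u, hur⟩, Involutions.BaerSuzuki.mem_pCore_of_conj_pairs _ fun g => ?_, rfl⟩
    have huu := D.mul_self hu
    refine Trans.isPGroup_pair (Subtype.ext huu) (Subtype.ext ?_) (Subtype.ext ?_)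
    · show (g : G) * u * (g : G)⁻¹ * ((g : G) * u * (g : G)⁻¹) = 1
      calc (g : G) * u * (g : G)⁻¹ * ((g : G) * u * (g : G)⁻¹) = g * (u * u) * (g : G)⁻¹ := by group
        _ = 1 := by rw [huu]; group
    · exact hcon g (mem_centralizer_singleton_iff.1 g.2)
  · -- `x ∈ C`
    rw [eC]
    exact ⟨z_ZC b hLE hr hx hr, z_ZC b hLE hr hx ht⟩
  · -- `x` centralises `U`
    intro u hu
    rw [eU] at hu
    exact hxS u (hUS hu)
  · -- `x` centralises `Q p ∩ C(U)`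
    intro p hp y hy hyU
    rw [eΔ] at hp
    rw [eQ] at hy
    have hyM : y ∈ ME V R o (zpowers z) := by
      obtain ⟨m, hm, rfl⟩ := hp
      have h2 : m⁻¹ * y * m⁻¹⁻¹ ∈ QF r := by
        have := QF_conj (g := m⁻¹) hy
        have e : m⁻¹ * (m * r * m⁻¹) * m⁻¹⁻¹ = r := by group
        rwa [e] at this
      have h3 := hSM (QF_le_S b hr h2)
      have e : y = m * (m⁻¹ * y * m⁻¹⁻¹) * m⁻¹ := by group
      rw [e]
      exact mul_mem (mul_mem hm h3) (inv_mem hm)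
    exact hxS y (mem_S_of b hSM hr hMU hp hy hyM fun u hu => hyU u (by rw [eU]; exact hu))
  · -- `⟨r^{C(f)}⟩` is abelian
    rintro f hf hf1 y hy w hw
    rw [er] at hy hw
    rw [ez] at hf
    have hfZ : f ∈ zc S ⊓ centralizer (P : Set G) := by
      rcases hf with rfl | rfl | rfl
      · exact hx
      · exact hz
      · exact mul_mem hx hz
    exact gen_comm b hfZ hf1 hrR hy hw

end plug

/-- **the end of II.0h1, `q = 2`, over a 2-group** : `|Z₀| ≤ 2` -/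
theorem main (b : HTT S P V R o) (hLE : ∀ i, LE V R i) {r : G} (hr : ∀ x, x ∈ R o ↔ x = 1 ∨ x = r)
    (hodd : ¬ 2 ∣ S.relIndex (JunAB.MZ S V R))
    (hz : UM V (JunAB.MZ S V R) ≤ QQ (R o) → ∀ c ∈ zc S ⊓ centralizer (P : Set G), Sig V R o c →
      ∃ z ∈ zc S ⊓ centralizer (P : Set G), z ≠ 1 ∧ (c = 1 ∨ c = z) ∧ Core V R o r z ∧
        ¬ UM V (MP V R o z) ≤ QQ (R o)) :
    ∀ x ∈ zc S ⊓ centralizer (P : Set G), ∀ y ∈ zc S ⊓ centralizer (P : Set G), x ≠ 1 → y ≠ 1 → x = y := by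
  intro x hx y hy hx1 hy1
  have hr1 : r ≠ 1 := Two.r_ne b hr
  obtain ⟨j, k, hj, hk, hjk⟩ := b.one_lt
  obtain ⟨t, ht1, ht2, ht⟩ := b.exists_gen j
  by_cases hα0 : UM V (JunAB.MZ S V R) ≤ QQ (R o)
  · obtain ⟨c, hc, hsig⟩ := exists_sig b hr hLE (JunAB.gsys_MZ b hr hx hx1 hodd) hx hx1 hα0
    obtain ⟨z, hz, hz1, hcz, hcore, hα⟩ := hz hα0 c hc hsig
    have hpar := JunC.noPar_of b hr hz (fun g hg hgz hgV => hsig.norm b hr hc hg (by
      rcases hcz with rfl | rfl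
      · rw [mul_one, one_mul]
      · exact hgz) hgV) hj ht ht1
    have key : ∀ w ∈ zc S ⊓ centralizer (P : Set G), w ≠ 1 → w = z := fun w hw hw1 =>
      (eq_of_ts b hLE hr hr1 hz hz1 hj ht ht1 hα hpar hcore hw).resolve_left hw1
    rw [key x hx hx1, key y hy hy1]
  · have hMM : ME V R o (zc S ⊓ centralizer (P : Set G)) = JunAB.MZ S V R := ME_MZ b
    have h1 := JunC.eq_zpowers b hLE hr hr1 hj ht ht1 rfl (by rw [hMM]; exact hodd) (by rw [hMM]; exact hα0) hx hx1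
    have h2 : y ∈ zpowers x := by rw [← h1]; exact hy
    have hx2 : x * x = 1 := by rw [← pow_two]; exact (mem_zc.1 hx.1).2.2
    obtain ⟨n, rfl⟩ := h2
    rcases Int.even_or_odd' n with ⟨m, rfl | rfl⟩
    · exfalso
      apply hy1
      show x ^ (2 * m) = 1
      rw [zpow_mul, zpow_two, hx2, one_zpow]
    · show x = x ^ (2 * m + 1)
      rw [zpow_add, zpow_mul, zpow_two, hx2, one_zpow, one_mul, zpow_one]

end Cfsg.Agent.Omega.HT.Main

end

section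


/-!
# II.0h1, `q = 2`, over a 2-group `S`: `HT/Main` with `HT/AlphaP` inserted

`main_core` : the instance has to give, for the element `c ∈ Z₀` with `Sig V R o c`, an element `z ∈ Z₀#`, `c = 1` or
`c = z`, with `Core V R o r z` (`O₂(M_z / C(U_z)) = 1`) and a module `Y` for `C(z r)`.
-/

set_option autoImplicit false
set_option linter.unusedSectionVars false

namespace Cfsg.Agent.Omega.HT.Main

open Subgroup Cfsg Cfsg.Agent.ZN Cfsg.Agent.Omega.BTwo Cfsg.Agent.Omega.HT Cfsg.Agent.Omega.HT.EntryTv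
open Cfsg.Agent.Omega.HT.EntryTs Cfsg.Agent.Omega.HOneTwo
open Cfsg.Agent.Omega.HTwo.Hat Cfsg.Agent.Omega.HTwo.ThmA Cfsg.Agent.Omega.MinPar
open Cfsg.Agent.Omega.HOne.TvDef
open Cfsg.Agent.Omega.HTwo.EntryTv (QF NF ME QF_conj NF_conj NF_base NF_gen cen_zpowers ME_z)
open Cfsg.Agent.Omega.HTwo.AlphaP (MP)
open Cfsg.Agent.Omega.HT.TComp (GSysW)

universe u

variable {G : Type u} [Group G] [Finite G] {ι : Type*} {S P V : Subgroup G}
  {R : ι → Subgroup G} {o : ι}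

/-- `GSysW` for `M_z` from `Core` -/
theorem gsys_of_core (b : HTT S P V R o) {r z : G} (hr : ∀ x, x ∈ R o ↔ x = 1 ∨ x = r)
    (hz : z ∈ zc S ⊓ centralizer (P : Set G)) (hz1 : z ≠ 1) (h : Core V R o r z) :
    GSysW (MP V R o z) (cl (R o) (MP V R o z)) r := by
  have hr1 : r ≠ 1 := Two.r_ne b hr
  have hE : zpowers z ≤ zc S ⊓ centralizer (P : Set G) := zpowers_le_cz hz
  have hE1 : zpowers z ≠ ⊥ := fun h => hz1 (zpowers_eq_bot.1 h)
  have hUU : UU (ME V R o (zpowers z)) r = cl (R o) (MP V R o z) := by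
    rw [UU_eq b hr hr1 hE (X_le_ME b), ME_z, b.cl_R_eq (b.trans_of_X ?_)]
    rw [← ME_z]; exact X_le_ME b
  rw [← hUU]
  have eM : MP V R o z = ME V R o (zpowers z) := (ME_z V R o z).symm
  rw [eM]
  have sq : ∀ x ∈ UU (ME V R o (zpowers z)) r, x * x = 1 := fun x hx => UU_sq b hr hr1 hE hE1 hx
  have nor : ∀ c ∈ ME V R o (zpowers z), ∀ n ∈ UU (ME V R o (zpowers z)) r,
      c * n * c⁻¹ ∈ UU (ME V R o (zpowers z)) r := fun c hc n hn => M_norm_UU b hr hr1 hE hc hn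
  exact
    { sq := sq
      nor := nor
      mem := Om_le_UU Om_base
      ne := hr1
      chain := fun U hU hCU c hc h1 h2 =>
        HT.TComp.chain_of_core sq nor (fun B hB hn h2 b' hb n hn' =>
          h B hB hn (fun x hx u hu => h2 x hx u hu) b' hb n hn') hU hCU hc h1 h2 }

/-- **AlphaP over `S`** -/
theorem not_alpha (b : HTT S P V R o) (hLE : ∀ i, LE V R i) {r z : G} (hr : ∀ x, x ∈ R o ↔ x = 1 ∨ x = r)
    (hz : z ∈ zc S ⊓ centralizer (P : Set G)) (hz1 : z ≠ 1) (h : Core V R o r z)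
    (hY : ∃ Y ≤ centralizer ({z * r} : Set G), GSysW (centralizer ({z * r} : Set G)) Y r) :
    ¬ UM V (MP V R o z) ≤ QQ (R o) :=
  AlphaP.not_alpha' b hLE hr hz hz1 (gsys_of_core b hr hz hz1 h) hY

/-- **the end of II.0h1, `q = 2`, over a 2-group**, with AlphaP inserted -/
theorem main_core (b : HTT S P V R o) (hLE : ∀ i, LE V R i) {r : G} (hr : ∀ x, x ∈ R o ↔ x = 1 ∨ x = r)
    (hodd : ¬ 2 ∣ S.relIndex (JunAB.MZ S V R))
    (hz : ∀ c ∈ zc S ⊓ centralizer (P : Set G), Sig V R o c →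
      ∃ z ∈ zc S ⊓ centralizer (P : Set G), z ≠ 1 ∧ (c = 1 ∨ c = z) ∧ Core V R o r z ∧
        ∃ Y ≤ centralizer ({z * r} : Set G), GSysW (centralizer ({z * r} : Set G)) Y r) :
    ∀ x ∈ zc S ⊓ centralizer (P : Set G), ∀ y ∈ zc S ⊓ centralizer (P : Set G), x ≠ 1 → y ≠ 1 → x = y := by
  refine main b hLE hr hodd fun _ c hc hs => ?_
  obtain ⟨z, hz, hz1, hcz, hcore, hY⟩ := hz c hc hs
  exact ⟨z, hz, hz1, hcz, hcore, not_alpha b hLE hr hz hz1 hcore hY⟩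

/-- `Core` if `S` has odd index in `M_z` -/
theorem core_of_odd (b : HTT S P V R o) {r z : G} (hr : ∀ x, x ∈ R o ↔ x = 1 ∨ x = r)
    (hz : z ∈ zc S ⊓ centralizer (P : Set G)) (hz1 : z ≠ 1) (hodd : ¬ 2 ∣ S.relIndex (MP V R o z)) :
    Core V R o r z := by
  have hr1 : r ≠ 1 := Two.r_ne b hr
  rw [← ME_z] at hodd
  exact fun B hB hn h2 => o2 b hr hr1 (zpowers_le_cz hz) (fun h => hz1 (zpowers_eq_bot.1 h)) hodd B hB hn h2

end Cfsg.Agent.Omega.HT.Main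

end

section


/-!
# II.0h1, `q = 2`, over a 2-group `S` Sylow in `N(R o)`: THEOREM Z' (#17321) for `HTT`

* `o2_cen_le`, `o2_ME_le` : `O₂(C(z)), O₂(ME V R o ⟨z⟩) ≤ S`;
* `eq_z` : TS(z) for one `z ∈ C_Z(P)#` implies `C_Z(P) = ⟨z⟩`.
-/

set_option autoImplicit false
set_option linter.unusedSectionVars false

namespace Cfsg.Agent.Omega.HT.EndZ

open Subgroup Cfsg Cfsg.Agent.ZN Cfsg.Agent.Omega.BTwo Cfsg.Agent.Omega.HT Cfsg.Agent.Omega.HT.EntryTv
open Cfsg.Agent.Omega.HT.EntryTs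
open Cfsg.Agent.Omega.HOneTwo (cl cj_le_cl le_cl le_normalizer_cl cl_le eq_of_card_two normalizer_le_cen_of_card UM Dt)
open Cfsg.Agent.Omega.HTwo.Hat Cfsg.Agent.Omega.HTwo.ThmA Cfsg.Agent.Omega.MinPar
open Cfsg.Agent.Omega.HOne.TvDef
open Cfsg.Agent.Omega.HTwo.EntryTv (QF NF ME QF_conj NF_conj NF_base NF_gen cen_zpowers ME_z)
open Cfsg.Agent.Omega.HTwo.AlphaP (MP)

universe u

variable {G : Type u} [Group G] [Finite G] {ι : Type*} {S P V : Subgroup G}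
  {R : ι → Subgroup G} {o : ι} (b : HTT S P V R o)
  {z : G} (hz : z ∈ zc S ⊓ centralizer (P : Set G)) (hz1 : z ≠ 1)

include b

theorem S_le_cen (hz : z ∈ zc S ⊓ centralizer (P : Set G)) : S ≤ centralizer ({z} : Set G) := fun s hs =>
  mem_centralizer_singleton_iff.2 ((mem_zc.1 hz.1).2.1 s hs)

/-- `O₂(M) ≤ S` if `O₂(M)` centralises `V` and `S ≤ M` -/
theorem o2_le_S {M : Subgroup G} (hSM : S ≤ M) (h : ZN.o2 M ≤ centralizer (V : Set G)) : ZN.o2 M ≤ S :=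
  le_S_of_norm b (ZN.isPGroup_o2 M) (h.trans (b.cen_le_N o)) (hSM.trans (ZN.le_normalizer_o2 M))

include hz hz1

theorem o2_cen_le : ZN.o2 (centralizer ({z} : Set G)) ≤ S :=
  o2_le_S b (S_le_cen b hz) (b.o2_le_cen (b.isLoc_cen hz.1 hz1) (b.X_le_cen hz))

theorem o2_ME_le : ZN.o2 (ME V R o (zpowers z)) ≤ S := by
  have hE := zpowers_le_cz hz
  have hSM : S ≤ ME V R o (zpowers z) := S_le_ME b hE
  have hMz : ME V R o (zpowers z) ≤ centralizer ({z} : Set G) := by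
    have h1 := ME_le_cen b hE
    rwa [cen_zpowers] at h1
  have h1 := o2_cen_le b hz hz1
  have h2 : ZN.o2 (centralizer ({z} : Set G)) ≤ ZN.o2 (ME V R o (zpowers z)) :=
    ZN.le_o2 (h1.trans hSM) (ZN.isPGroup_o2 _) (hMz.trans (ZN.le_normalizer_o2 _))
  have h3 := b.isLoc_cen hz.1 hz1
  refine o2_le_S b hSM (b.loc _ hSM (X_le_ME b) ?_ ?_)
  · exact fun h => h3.o2_ne (le_bot_iff.1 (h2.trans_eq h))
  · refine le_trans ?_ ((h3.char2 b.char2).trans h2)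
    exact inf_le_inf hMz (centralizer_le h2)

variable (hLE : ∀ i, LE V R i) {r : G} (hr : ∀ x, x ∈ R o ↔ x = 1 ∨ x = r) (hr1 : r ≠ 1)

include hr hr1 in
/-- `Q r ∩ C(U) ≤ O₂(M)` -/
theorem Q_inf_le : QF r ⊓ centralizer (UU (ME V R o (zpowers z)) r : Set G) ≤ ZN.o2 (ME V R o (zpowers z)) := by
  have hE := zpowers_le_cz hz
  obtain ⟨M, hM⟩ : ∃ M, M = ME V R o (zpowers z) := ⟨_, rfl⟩
  have hQM : QF r ≤ M := by rw [hM, QF_eq b hr]; exact Q_le_ME b hE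
  have hU : ∀ m ∈ M, ∀ u ∈ UU M r, m * u * m⁻¹ ∈ UU M r := by
    intro m hm u hu
    rw [hM] at hm hu ⊢
    exact M_norm_UU b hr hr1 hE hm hu
  have hcn : ∀ m ∈ M, ∀ x ∈ centralizer (UU M r : Set G), m * x * m⁻¹ ∈ centralizer (UU M r : Set G) := by
    intro m hm x hx
    rw [mem_centralizer_iff] at hx ⊢
    intro u hu
    have h1 := hx _ (hU m⁻¹ (inv_mem hm) u hu)
    calc u * (m * x * m⁻¹) = m * ((m⁻¹ * u * m⁻¹⁻¹) * x) * m⁻¹ := by group
      _ = m * x * m⁻¹ * u := by rw [h1]; group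
  rw [← hM]
  change _ ≤ O2 M
  refine le_O2_of_chain (B := M ⊓ centralizer (UU M r : Set G)) (C := M ⊓ centralizer (UU M r : Set G))
    (inf_le_inf_right _ hQM) le_rfl inf_le_left ((O2_isPGroup _).to_le inf_le_left) ?_ ?_ ?_
  · intro g hg x hx
    refine ⟨?_, hcn g hg.1 x hx.2⟩
    have h1 := QF_conj (g := g) hx.1
    have h2 : g * r * g⁻¹ = r := by
      have h3 : r ∈ UU M r := subset_closure ⟨1, one_mem _, by group⟩
      have h4 := mem_centralizer_iff.1 hg.2 r h3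
      rw [← h4, mul_inv_cancel_right]
    rwa [h2] at h1
  · exact fun g hg x hx => ⟨M.mul_mem (M.mul_mem hg.1 hx.1) (M.inv_mem hg.1), hcn g hg.1 x hx.2⟩
  · exact fun g hg x hx => ⟨M.mul_mem (M.mul_mem hg hx.1) (M.inv_mem hg), hcn g hg x hx.2⟩

variable {j : ι} (hj : j ≠ o) {t : G} (ht : ∀ x, x ∈ R j ↔ x = 1 ∨ x = t) (ht1 : t ≠ 1)

include hLE hr hr1 hj ht ht1 in
/-- **THEOREM Z'** : TS(z) for one `z ∈ C_Z(P)#` implies `C_Z(P) = ⟨z⟩` -/
theorem eq_z (hα : ¬ UM V (MP V R o z) ≤ QQ (R o))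
    (hpar : ∀ x y, Adj (ME V R o (zpowers z)) r t r x → Adj (ME V R o (zpowers z)) r t r y →
      x * y ∈ ZC QF r → y = x ∨ y = r * x)
    (ho2 : ∀ B : Subgroup G, B ≤ ME V R o (zpowers z) → (∀ m ∈ ME V R o (zpowers z), ∀ b ∈ B, m * b * m⁻¹ ∈ B) →
      (∀ b ∈ B, ∀ u ∈ UU (ME V R o (zpowers z)) r, b * b * u = u * (b * b)) →
      ∀ b ∈ B, ∀ u ∈ UU (ME V R o (zpowers z)) r, b * u = u * b)
    {c : G} (hc : c ∈ zc S ⊓ centralizer (P : Set G)) : c = 1 ∨ c = z := by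
  have hE := zpowers_le_cz hz
  have hE1 : zpowers z ≠ ⊥ := fun h => hz1 (zpowers_eq_bot.1 h)
  obtain ⟨M, hM⟩ : ∃ M, M = ME V R o (zpowers z) := ⟨_, rfl⟩
  set D := tsOf hj ht ht1 b hLE hr hr1 hz hz1 hα hpar ho2 with hD
  have eU : D.U = UU (ME V R o (zpowers z)) r := HOneTwo.Trans.gn_eq_UU _ _
  have hcS : ∀ s ∈ S, s * c = c * s := (mem_zc.1 hc.1).2.1
  have hUo : UU (ME V R o (zpowers z)) r ≤ ZN.o2 (ME V R o (zpowers z)) := by
    refine ZN.le_o2 ?_ (UU_pgroup b hr hr1 hE hE1)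
      (HOne.TvHSide.le_normalizer_of fun m hm u hu => M_norm_UU b hr hr1 hE hm hu)
    have hrM : r ∈ ME V R o (zpowers z) := X_le_ME b (V_le_X b (b.R_le o ((hr r).2 (Or.inr rfl))))
    show closure (Om (ME V R o (zpowers z)) r) ≤ _
    rw [closure_le]
    rintro _ ⟨m, hm, rfl⟩
    exact mul_mem (mul_mem hm hrM) (inv_mem hm)
  have hUS : UU (ME V R o (zpowers z)) r ≤ S := hUo.trans (o2_ME_le b hz hz1)
  have hcC : c ∈ D.C := by
    have hC := zpowers_le_cz hc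
    refine ⟨?_, ?_⟩
    · exact z_ZC b hLE hr hc hr
    · exact z_ZC b hLE hr hc ht
  have hcU : ∀ u ∈ D.U, c * u = u * c := by
    intro u hu
    rw [eU] at hu
    exact (hcS u (hUS hu)).symm
  refine HT.ThmZ.thmZ D ?_ ?_ hcC hcU ?_ ?_
  · -- `O₂(H₁ / C(N₁)) = 1`
    intro B hB hn hsq x hx u hu
    have hB' : B ≤ normalizer (R o : Set G) := by
      rw [normalizer_eq b hr]; exact hB
    have h1 : B ≤ centralizer (NF r (zpowers z) r : Set G) := by
      refine hred b hr hr1 hE B hB' (HOne.TvHSide.le_normalizer_of fun m hm x hx => hn m ?_ x hx) ?_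
      · rw [normalizer_eq b hr] at hm; exact hm
      · intro y hy
        refine ⟨1, ?_⟩
        rw [pow_one, pow_two, NF_gen, mem_centralizer_iff]
        exact fun u hu => (hsq y hy u hu).symm
    rw [NF_gen] at h1
    exact (mem_centralizer_iff.1 (h1 hx) u hu).symm
  · -- Baer-Suzuki
    intro u hu huQ
    by_contra hcon
    push Not at hcon
    apply huQ
    have hur : u ∈ centralizer ({r} : Set G) := mem_centralizer_singleton_iff.2 (D.U_r hu)
    have : Fact (Nat.Prime 2) := ⟨Nat.prime_two⟩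
    refine ⟨⟨u, hur⟩, Involutions.BaerSuzuki.mem_pCore_of_conj_pairs _ fun g => ?_, rfl⟩
    have huu := D.mul_self hu
    refine HOneTwo.Trans.isPGroup_pair (Subtype.ext huu) (Subtype.ext ?_) (Subtype.ext ?_)
    · show (g : G) * u * (g : G)⁻¹ * ((g : G) * u * (g : G)⁻¹) = 1
      calc (g : G) * u * (g : G)⁻¹ * ((g : G) * u * (g : G)⁻¹) = g * (u * u) * (g : G)⁻¹ := by group
        _ = 1 := by rw [huu]; group
    · exact hcon g (mem_centralizer_singleton_iff.1 g.2)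
  · -- `c ∈ Z(O₂(M))`
    rintro p ⟨m, hm, rfl⟩ x hx hxU
    have hmM : m ∈ ME V R o (zpowers z) := hm
    have h1 : m⁻¹ * x * m ∈ QF r := D.Q_inv hx
    have h2 : m⁻¹ * x * m ∈ ZN.o2 (ME V R o (zpowers z)) := by
      refine Q_inf_le b hz hz1 hr hr1 (mem_inf.2 ⟨h1, mem_centralizer_iff.2 fun u hu => ?_⟩)
      have h3 : m * u * m⁻¹ ∈ D.U := by
        rw [eU]; exact M_norm_UU b hr hr1 hE hmM hu
      have h4 := hxU _ h3
      calc u * (m⁻¹ * x * m) = m⁻¹ * ((m * u * m⁻¹) * x) * m := by group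
        _ = m⁻¹ * x * m * u := by rw [← h4]; group
    have h3 : x ∈ ZN.o2 (ME V R o (zpowers z)) := by
      have h4 := conj_mem_of_normalizer (ZN.le_normalizer_o2 _ hmM) h2
      have e : m * (m⁻¹ * x * m) * m⁻¹ = x := by group
      rwa [e] at h4
    exact (hcS x (o2_ME_le b hz hz1 h3)).symm
  · -- `⟨r^{C(f)}⟩` is abelian
    intro f hf hf1 x hx y hy
    have hfZ : f ∈ zc S ⊓ centralizer (P : Set G) := by
      rcases hf with rfl | rfl | rfl
      · exact hc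
      · exact hz
      · exact mul_mem hc hz
    have d := dt b hfZ hf1
    have hle : HOneTwo.Trans.gen f r ≤ UM V (centralizer ({f} : Set G)) := by
      unfold HOneTwo.Trans.gen
      rw [closure_le]
      rintro w ⟨m, hm, rfl⟩
      exact cj_le_cl (mem_centralizer_singleton_iff.2 hm) (conj_mem_cj (b.R_le o ((hr r).2 (Or.inr rfl))))
    exact d.U_comm (hle hx) (hle hy)

end Cfsg.Agent.Omega.HT.EndZ

end

section


/-!
# II.0h1, `q = 2`, over `S`: the choice of `z` in (A), (B) of #17185 with `[z, N(V) ∩ N(R o)] = 1`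

`exists_z` : as `JunAB.exists_z`; in addition `z = z₀` or `N(V) ∩ N(R o)` centralises `z` (so `z ∈ D_T` in WrCv).
-/

set_option autoImplicit false
set_option linter.unusedSectionVars false

namespace Cfsg.Agent.Omega.HT.JunZ

open Subgroup Cfsg Cfsg.Agent.MinSimple.VModule Cfsg.Agent.Omega.BTwo
open Cfsg.Agent.Omega.HOneTwo Cfsg.Agent.Omega.HTwo Cfsg.Agent.Omega.HTwo.ThmA Cfsg.Agent.Omega.HTwo.Par
open Cfsg.Agent.Omega.HTwo.Hat Cfsg.Agent.Omega.HTwo.TComp Cfsg.Agent.Omega.MinPar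
open Cfsg.Agent.ZN (zc o2 le_normalizer_o2)
open Cfsg.Agent.Omega.HTwo.AlphaFive (mem_C)
open Cfsg.Agent.Omega.TV (GSys)
open Cfsg.Agent.Omega.HOne
open Cfsg.Agent.Omega.HOne.JunIrr Cfsg.Agent.Omega.HT Cfsg.Agent.Omega.HT.Two Cfsg.Agent.Omega.HT.JunIrr
open Cfsg.Agent.Omega.HT.JunAB (mem_of_alpha fix_c exists_avg mem_zc_of mem_V MZ gsys_MZ)

universe u

variable {G : Type u} [Group G] [Finite G] {ι : Type*} {S P V : Subgroup G}
  {R : ι → Subgroup G} {o : ι} (b : HTT S P V R o) {r : G} (hr : ∀ x, x ∈ R o ↔ x = 1 ∨ x = r)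
include b hr

/-- **(A), (B)** : the choice of `z` -/
theorem exists_z_aux (hLE : ∀ i, ThmA.LE V R i) (hch : GSys (MZ S V R) (cl (R o) (MZ S V R)) r) {z₀ : G} (hz₀ : z₀ ∈ zc S ⊓ centralizer (P : Set G)) (hz₀1 : z₀ ≠ 1)
    (hα : UM V (MZ S V R) ≤ QQ (R o)) :
    ∃ z ∈ zc S ⊓ centralizer (P : Set G), z ≠ 1 ∧
      (z = z₀ ∨ ∀ g ∈ normalizer (V : Set G), g ∈ normalizer (R o : Set G) → g * z = z * g) ∧
      ∀ a ∈ normalizer (R o : Set G), a * z = z * a → (∀ v ∈ V, a * v * a⁻¹ ∈ V ⊔ ZQ R o) →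
        a ∈ normalizer (V : Set G) := by
  have hNr := fun g => mem_N_iff b hr (g := g)
  obtain ⟨j, k, hj, hk, hjk⟩ := b.one_lt
  obtain ⟨r₂, h21, h22, h2⟩ := b.exists_gen j
  have h2j : r₂ ∈ R j := (h2 _).2 (Or.inr rfl)
  have h2V := b.R_le j h2j
  obtain ⟨c, hc, H⟩ := exists_avg b hr hj h2j h21 hLE
  have hVn : ∀ a ∈ normalizer (V : Set G), ∀ v ∈ V, a * v * a⁻¹ ∈ V ⊔ ZQ R o := fun a ha v hv =>
    mem_sup_left (conj_mem_of_normalizer ha hv)
  obtain ⟨a, ha, hac⟩ := mem_of_alpha b hr hLE hch hz₀ hz₀1 hα hc fun g hgV hgR =>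
    fix_c b hr hj h2j h21 hc hgV hgR (H g hgR (hVn g hgV))
  have hZ := mem_zc_of b hr hLE hac (by
    intro s hs
    have h3 := fix_c b hr hj h2j h21 hc (b.S_V hs) (b.S_R hs) (H s (b.S_R hs) (hVn s (b.S_V hs)))
    have e : s * (a * c) * s⁻¹ * (a * c)⁻¹ = (s * a * s⁻¹) * (s * c * s⁻¹ * c⁻¹) * a⁻¹ := by group
    rw [e]
    exact mul_mem (mul_mem (conj_mem_of_normalizer (b.S_R hs) ha) h3) (inv_mem ha))
  have main : ∀ g ∈ normalizer (R o : Set G), g * (a * c) = a * c * g →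
      (∀ v ∈ V, g * v * g⁻¹ ∈ V ⊔ ZQ R o) → g ∈ normalizer (V : Set G) := by
    intro g hg hgc hgV
    refine mem_normalizer_of_conj fun v hv => ?_
    have h4 : g * a = a * g := by
      rcases (hr a).1 ha with rfl | rfl
      · rw [one_mul, mul_one]
      · exact (hNr g).1 hg
    have h5 : g * c = c * g := by
      apply mul_left_cancel (a := a)
      rw [← mul_assoc, ← h4, mul_assoc, hgc, mul_assoc]
    have h6 := H g hg hgV
    have e1 : (r₂ * c)⁻¹ * g * (r₂ * c) * g⁻¹ = c⁻¹ * (r₂⁻¹ * g * r₂ * g⁻¹) * c := by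
      have e2 : c * g⁻¹ = g⁻¹ * c := by
        rw [eq_inv_mul_iff_mul_eq, ← mul_assoc, h5, mul_inv_cancel_right]
      calc (r₂ * c)⁻¹ * g * (r₂ * c) * g⁻¹ = c⁻¹ * r₂⁻¹ * g * r₂ * (c * g⁻¹) := by group
        _ = _ := by rw [e2]; group
    rw [e1] at h6
    have hdN : c ∈ normalizer (R o : Set G) := b.Q_le o (ZQ_le o hc)
    have h7 := conj_mem_of_normalizer hdN h6
    have e2 : c * (c⁻¹ * (r₂⁻¹ * g * r₂ * g⁻¹) * c) * c⁻¹ = r₂⁻¹ * g * r₂ * g⁻¹ := by group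
    rw [e2] at h7
    have h8 : g * r₂ * g⁻¹ ∈ V := by
      have e : g * r₂ * g⁻¹ = r₂ * (r₂⁻¹ * g * r₂ * g⁻¹) := by group
      rw [e]
      exact mul_mem h2V (b.R_le o h7)
    rcases mem_V b hr hj h2j h21 hv with h9 | h9
    · exact b.R_le o (conj_mem_of_normalizer hg h9)
    · have e : g * v * g⁻¹ = (g * r₂ * g⁻¹) * (g * (r₂⁻¹ * v) * g⁻¹) := by group
      rw [e]
      exact mul_mem h8 (b.R_le o (conj_mem_of_normalizer hg h9))
  by_cases hz1 : a * c = 1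
  · refine ⟨z₀, hz₀, hz₀1, Or.inl rfl, fun g hg _ hgV => main g hg ?_ hgV⟩
    rw [hz1, mul_one, one_mul]
  · refine ⟨a * c, hZ, hz1, Or.inr fun g hgV hgR => ?_, fun g hg hgz hgV => main g hg hgz hgV⟩
    have h3 := fix_c b hr hj h2j h21 hc hgV hgR (H g hgR (hVn g hgV))
    have e : g * (a * c) * g⁻¹ * (a * c)⁻¹ = (g * a * g⁻¹) * (g * c * g⁻¹ * c⁻¹) * a⁻¹ := by group
    have h4 : g * (a * c) * g⁻¹ * (a * c)⁻¹ ∈ R o := by
      rw [e]
      exact mul_mem (mul_mem (conj_mem_of_normalizer hgR ha) h3) (inv_mem ha)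
    have h5 : g * (a * c) * g⁻¹ * (a * c)⁻¹ ∈ CenX V R :=
      mul_mem (conj_mem_of_normalizer (b.NV_le_NCenX hgV) hac) (inv_mem hac)
    have h6 := b.toBTS.cen_VX (b.R_le o h4) h5
    exact mul_inv_eq_iff_eq_mul.1 (mul_inv_eq_one.1 h6)

omit hr in
/-- **(A), (B)** : the choice of `z` -/
theorem exists_z (hLE : ∀ i, ThmA.LE V R i) (hodd : ¬ 2 ∣ S.relIndex (MZ S V R)) {z₀ : G} (hz₀ : z₀ ∈ zc S ⊓ centralizer (P : Set G)) (hz₀1 : z₀ ≠ 1)
    (hα : UM V (MZ S V R) ≤ QQ (R o)) :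
    ∃ z ∈ zc S ⊓ centralizer (P : Set G), z ≠ 1 ∧
      (z = z₀ ∨ ∀ g ∈ normalizer (V : Set G), g ∈ normalizer (R o : Set G) → g * z = z * g) ∧
      ∀ a ∈ normalizer (R o : Set G), a * z = z * a → (∀ v ∈ V, a * v * a⁻¹ ∈ V ⊔ ZQ R o) →
        a ∈ normalizer (V : Set G) := by
  obtain ⟨r, -, -, hr⟩ := b.exists_gen o
  exact exists_z_aux b hr hLE (gsys_MZ b hr hz₀ hz₀1 hodd) hz₀ hz₀1 hα

end Cfsg.Agent.Omega.HT.JunZ

end

section


/-!
# II.0h1, `q = 2`, over a 2-group `S` Sylow in `N(R o)`: `|C_Z(P)| = 2`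

`false_of` : `HTT S P V R o`, LEMMA E, two elements `z₀ ≠ z₁` of `C_Z(P)#`, `S` Sylow in `⟨C(Z), X⟩`; for the
elements `z ∈ C_Z(P)#` with `z = z₀` or `[z, N(V) ∩ N(R o)] = 1`: not (alpha) for `⟨C_{H₁}(z), X⟩`, and
`O₂(M/C_M(U)) = 1`.  (#17185 (A)-(C), #15959, #15507 (1)-(5), THEOREM Z' #17321.)
-/

set_option autoImplicit false
set_option linter.unusedSectionVars false

namespace Cfsg.Agent.Omega.HT.Final

open Subgroup Cfsg Cfsg.Agent.ZN Cfsg.Agent.Omega.BTwo Cfsg.Agent.Omega.HT Cfsg.Agent.Omega.HT.EntryTv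
open Cfsg.Agent.Omega.HT.EntryTs
open Cfsg.Agent.Omega.HOneTwo (UM)
open Cfsg.Agent.Omega.HTwo.ThmA (LE)
open Cfsg.Agent.Omega.HTwo.Hat (ZQ)
open Cfsg.Agent.Omega.HOne.TvDef
open Cfsg.Agent.Omega.HTwo.EntryTv (QF NF ME)
open Cfsg.Agent.Omega.HTwo.AlphaP (MP)
open Cfsg.Agent.Omega.HT.JunAB (MZ)

universe u

variable {G : Type u} [Group G] [Finite G] {ι : Type*} {S P V : Subgroup G}
  {R : ι → Subgroup G} {o : ι}

theorem false_of (b : HTT S P V R o) (hLE : ∀ i, LE V R i) {z₀ z₁ : G}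
    (hz₀ : z₀ ∈ zc S ⊓ centralizer (P : Set G)) (h0 : z₀ ≠ 1)
    (hz₁ : z₁ ∈ zc S ⊓ centralizer (P : Set G)) (h1 : z₁ ≠ 1) (hne : z₁ ≠ z₀)
    (hodd : ¬ 2 ∣ S.relIndex (MZ S V R))
    (hα : ∀ z ∈ zc S ⊓ centralizer (P : Set G), z ≠ 1 →
      (z = z₀ ∨ ∀ g ∈ normalizer (V : Set G), g ∈ normalizer (R o : Set G) → g * z = z * g) →
      ¬ UM V (MP V R o z) ≤ QQ (R o))
    (ho2 : ∀ z ∈ zc S ⊓ centralizer (P : Set G), z ≠ 1 →
      (z = z₀ ∨ ∀ g ∈ normalizer (V : Set G), g ∈ normalizer (R o : Set G) → g * z = z * g) →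
      ∀ r, (∀ x, x ∈ R o ↔ x = 1 ∨ x = r) → r ≠ 1 →
      ∀ B : Subgroup G, B ≤ ME V R o (zpowers z) → (∀ m ∈ ME V R o (zpowers z), ∀ b ∈ B, m * b * m⁻¹ ∈ B) →
      (∀ b ∈ B, ∀ u ∈ UU (ME V R o (zpowers z)) r, b * b * u = u * (b * b)) →
      ∀ b ∈ B, ∀ u ∈ UU (ME V R o (zpowers z)) r, b * u = u * b) : False := by
  obtain ⟨r, hr1, -, hr⟩ := b.exists_gen o
  obtain ⟨j, k, hj, hk, hjk⟩ := b.one_lt
  obtain ⟨t, ht1, -, ht⟩ := b.exists_gen j
  by_cases hα₀ : UM V (MZ S V R) ≤ QQ (R o)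
  · obtain ⟨z, hz, hz1, hzz, H⟩ := JunZ.exists_z b hLE hodd hz₀ h0 hα₀
    have hMz : ME V R o (zpowers z) ≤ centralizer ({z} : Set G) := by
      intro m hm
      rw [mem_centralizer_singleton_iff]
      exact M_z b hz hm
    have hpar := JunAB.noPar b hr (M := ME V R o (zpowers z)) hMz H hj ((ht t).2 (Or.inr rfl)) ht1
      (Q := QF) (QF_eq b hr)
    have key : ∀ c ∈ zc S ⊓ centralizer (P : Set G), c = 1 ∨ c = z := fun c hc =>
      EndZ.eq_z b hz hz1 hLE hr hr1 hj ht ht1 (hα z hz hz1 hzz) hpar (ho2 z hz hz1 hzz r hr hr1) hc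
    have e0 := (key z₀ hz₀).resolve_left h0
    have e1 := (key z₁ hz₁).resolve_left h1
    exact hne (e1.trans e0.symm)
  · have eM : ME V R o (zc S ⊓ centralizer (P : Set G)) = MZ S V R := ME_MZ b
    rw [← eM] at hodd hα₀
    have h2 := JunC.eq_zpowers b hLE hr hr1 hj ht ht1 rfl hodd hα₀ hz₀ h0
    rw [h2] at hz₁
    obtain ⟨n, hn⟩ := mem_zpowers_iff.1 hz₁
    have hsq : z₀ * z₀ = 1 := by rw [← pow_two]; exact (mem_zc.1 hz₀.1).2.2
    have h3 : z₁ = 1 ∨ z₁ = z₀ := by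
      rcases Int.even_or_odd' n with ⟨m, hm | hm⟩
      · left
        rw [← hn, hm, zpow_mul, zpow_two, hsq, one_zpow]
      · right
        rw [← hn, hm, zpow_add, zpow_mul, zpow_two, hsq, one_zpow, one_mul, zpow_one]
    rcases h3 with h3 | h3
    · exact h1 h3
    · exact hne h3

end Cfsg.Agent.Omega.HT.Final

end

section


/-!
# (OT) over `T`, the module form (#17249 (OT), #18272, #18372, 138's (f1) in #18879)

`OtD T V X r` : `T` is a Sylow 2-subgroup of `C(r)`, `V ∋ r` a four-group normalised by `T` and `X`, `X` transitive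
on `V#`, and `(zt)`: some `a ∈ T` with `[b, a] = r`, `b ∈ V`, acts on the involutions of the centre of `C_T(V)` as a
transvection with centre `r`.

* `OtD.cen` : if `M ≥ T, X` normalises the subgroup `B` and the subgroup `U ≥ V`, and the squares of the elements
  of `B` centralise `U`, then `B` centralises `r`;
* `OtD.core` : `O₂(M/C_M(U)) = 1` for `U = ⟨r^M⟩`; `OtD.gsysW` : `GSysW M ⟨r^M⟩ r`;
* `exists_Y` : 963's module `Y = ⟨r₁^C, r₂^C⟩` for `C = C(y)`, `OtD` at `r₂`, `T` centralises `r₁`.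
-/

set_option autoImplicit false
set_option linter.unusedSectionVars false

namespace Cfsg.Agent.Omega.HT.OtCore

open Subgroup Cfsg Cfsg.Agent.MinSimple.VModule Cfsg.Agent.Omega.HOneTwo Cfsg.Agent.Omega.HT.TComp Cfsg.Agent.Omega.BTwo
open Cfsg.Agent.ZN (zc o2 le_normalizer_o2)

variable {G : Type*} [Group G]

/-- the data of a line `V` on the point `r`, over `T` -/
structure OtD (T V X : Subgroup G) (r : G) : Prop where
  T_p : IsPGroup 2 T
  T_r : ∀ t ∈ T, t * r = r * t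
  odd : ¬ 2 ∣ T.relIndex (centralizer ({r} : Set G))
  V_T : V ≤ T
  V_sq : ∀ v ∈ V, v * v = 1
  V_four : ∀ v ∈ V, v ≠ 1 → v ≠ r → ∀ w ∈ V, w = 1 ∨ w = r ∨ w = v ∨ w = v * r
  r_mem : r ∈ V
  r_ne : r ≠ 1
  T_V : T ≤ normalizer (V : Set G)
  X_V : X ≤ normalizer (V : Set G)
  trans : ∀ v ∈ V, v ≠ 1 → ∃ x ∈ X, x * r * x⁻¹ = v
  zt : ∃ a ∈ T, ∃ b ∈ V, a * b * a⁻¹ = b * r ∧ ∀ c ∈ T, c * c = 1 →
    (∀ t ∈ T, t ∈ centralizer (V : Set G) → t * c = c * t) → a * c * a⁻¹ = c ∨ a * c * a⁻¹ = c * r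

namespace OtD

variable {T V X M U B : Subgroup G} {r : G} (h : OtD T V X r)
include h

theorem cj_mem {t v : G} (ht : t ∈ T) (hv : v ∈ V) : t * v * t⁻¹ ∈ V := (mem_normalizer_iff.1 (h.T_V ht) v).1 hv

theorem xj_mem {t v : G} (ht : t ∈ X) (hv : v ∈ V) : t * v * t⁻¹ ∈ V := (mem_normalizer_iff.1 (h.X_V ht) v).1 hv

/-- (K0) : an element of `T` in the normal subgroup `B` centralises `V` -/
theorem cenV (hXM : X ≤ M) (hVU : V ≤ U) (hn : ∀ m ∈ M, ∀ b ∈ B, m * b * m⁻¹ ∈ B)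
    (h2 : ∀ b ∈ B, ∀ u ∈ U, b * b * u = u * (b * b)) {s : G} (hs : s ∈ T) (hsB : s ∈ B) {v : G} (hv : v ∈ V) :
    s * v = v * s := by
  by_contra hne
  have hrr := h.V_sq r h.r_mem
  have hv1 : v ≠ 1 := fun e => hne (by rw [e, mul_one, one_mul])
  have hvr : v ≠ r := fun e => hne (by rw [e]; exact h.T_r s hs)
  have cc : ∀ {x y : G}, x * y * x⁻¹ = y → x * y = y * x := fun h => mul_inv_eq_iff_eq_mul.1 h
  -- `s` maps every `w ∈ V` outside `{1, r}` to `w r`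
  have hmv : ∀ w ∈ V, w ≠ 1 → w ≠ r → s * w * s⁻¹ = w * r := by
    have hfix : ∀ w ∈ V, w ≠ 1 → w ≠ r → s * w * s⁻¹ ≠ w := by
      intro w hw hw1 hwr e
      apply hne
      rcases h.V_four w hw hw1 hwr v hv with h1 | h1 | h1 | h1
      · exact absurd h1 hv1
      · exact absurd h1 hvr
      · rw [h1]; exact cc e
      · rw [h1]
        calc s * (w * r) = (s * w) * r := by group
          _ = w * (s * r) := by rw [cc e]; group
          _ = w * r * s := by rw [h.T_r s hs]; group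
    intro w hw hw1 hwr
    rcases h.V_four w hw hw1 hwr _ (h.cj_mem hs hw) with h1 | h1 | h1 | h1
    · exact absurd (conj_eq_one_iff.1 h1) hw1
    · exfalso
      apply hwr
      have h3 : s * r * s⁻¹ = r := by rw [h.T_r s hs, mul_inv_cancel_right]
      calc w = s⁻¹ * (s * w * s⁻¹) * s := by group
        _ = s⁻¹ * (s * r * s⁻¹) * s := by rw [h1, h3]
        _ = r := by group
    · exact absurd h1 (hfix w hw hw1 hwr)
    · exact h1
  obtain ⟨g, hg, hgv⟩ := h.trans v hv hv1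
  have hgM := hXM hg
  obtain ⟨s', hs'⟩ : ∃ s', s' = g * s * g⁻¹ := ⟨_, rfl⟩
  have hs'B : s' ∈ B := by rw [hs']; exact hn g hgM s hsB
  -- `s'` fixes `v`
  have e1 : s' * v * s'⁻¹ = v := by
    calc s' * v * s'⁻¹ = g * (s * r * s⁻¹) * g⁻¹ := by rw [hs', ← hgv]; group
      _ = g * r * g⁻¹ := by rw [h.T_r s hs, mul_inv_cancel_right]
      _ = v := hgv
  -- `s'` maps `r` to `r v`
  have hu : g⁻¹ * r * g ∈ V := by
    have h1 := (mem_normalizer_iff.1 (h.X_V (inv_mem hg)) r).1 h.r_mem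
    rwa [inv_inv] at h1
  have hu1 : g⁻¹ * r * g ≠ 1 := by
    intro e
    apply h.r_ne
    calc r = g * (g⁻¹ * r * g) * g⁻¹ := by group
      _ = 1 := by rw [e]; group
  have hur : g⁻¹ * r * g ≠ r := by
    intro e
    apply hvr
    rw [← hgv]
    calc g * r * g⁻¹ = g * (g⁻¹ * r * g) * g⁻¹ := by rw [e]
      _ = r := by group
  have e2 : s' * r * s'⁻¹ = r * v := by
    calc s' * r * s'⁻¹ = g * (s * (g⁻¹ * r * g) * s⁻¹) * g⁻¹ := by rw [hs']; group
      _ = g * (g⁻¹ * r * g * r) * g⁻¹ := by rw [hmv _ hu hu1 hur]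
      _ = r * (g * r * g⁻¹) := by group
      _ = r * v := by rw [hgv]
  have e3 : s * v * s⁻¹ = v * r := hmv v hv hv1 hvr
  have e4 : s * r * s⁻¹ = r := by rw [h.T_r s hs, mul_inv_cancel_right]
  -- `y = s s'` : `r ↦ v ↦ v r`
  have hrv : r * v = v * r := by
    have h1 := h.V_sq _ (mul_mem h.r_mem hv)
    have h3 := h.V_sq v hv
    calc r * v = r * v * (r * v) * (v⁻¹ * r⁻¹) := by group
      _ = v⁻¹ * r⁻¹ := by rw [h1, one_mul]
      _ = v * r := by rw [inv_eq_of_mul_eq_one_left h3, inv_eq_of_mul_eq_one_left hrr]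
  have e5 : (s * s') * r * (s * s')⁻¹ = v := by
    calc (s * s') * r * (s * s')⁻¹ = s * (s' * r * s'⁻¹) * s⁻¹ := by group
      _ = (s * r * s⁻¹) * (s * v * s⁻¹) := by rw [e2]; group
      _ = r * (v * r) := by rw [e4, e3]
      _ = (r * r) * v := by rw [← hrv]; group
      _ = v := by rw [hrr, one_mul]
  have e6 : (s * s') * v * (s * s')⁻¹ = v * r := by
    calc (s * s') * v * (s * s')⁻¹ = s * (s' * v * s'⁻¹) * s⁻¹ := by group
      _ = v * r := by rw [e1, e3]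
  have e7 := h2 _ (B.mul_mem hsB hs'B) r (hVU h.r_mem)
  have e8 : (s * s') * ((s * s') * r * (s * s')⁻¹) * (s * s')⁻¹ = r := by
    calc (s * s') * ((s * s') * r * (s * s')⁻¹) * (s * s')⁻¹
        = (s * s' * (s * s') * r) * (s * s' * (s * s'))⁻¹ := by group
      _ = r := by rw [e7]; group
  rw [e5, e6] at e8
  exact hv1 (mul_eq_right.1 e8)

/-- **(OT), module form.** -/
theorem cen [Finite G] (hTM : T ≤ M) (hXM : X ≤ M) (hUM : ∀ m ∈ M, ∀ u ∈ U, m * u * m⁻¹ ∈ U) (hVU : V ≤ U)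
    (hB : B ≤ M) (hn : ∀ m ∈ M, ∀ b ∈ B, m * b * m⁻¹ ∈ B)
    (h2 : ∀ b ∈ B, ∀ u ∈ U, b * b * u = u * (b * b)) : ∀ b ∈ B, b * r = r * b := by
  by_contra hcon
  push Not at hcon
  obtain ⟨b₀, hb₀, hb₀r⟩ := hcon
  -- `K = C_M(U)`
  obtain ⟨K, hK⟩ : ∃ K, K = M ⊓ centralizer (U : Set G) := ⟨_, rfl⟩
  have hKU : ∀ k ∈ K, ∀ u ∈ U, k * u = u * k := fun k hk u hu => by
    rw [hK] at hk
    exact (mem_centralizer_iff.1 hk.2 u hu).symm
  have hKn : M ≤ normalizer (K : Set G) := by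
    rw [hK]
    exact HOne.TvHSide.le_normalizer_inf_centralizer (HOne.TvHSide.le_normalizer_of hUM)
  have hsq : ∀ x ∈ B, ∃ k : ℕ, x ^ 2 ^ k ∈ K := by
    intro x hx
    refine ⟨1, ?_⟩
    rw [hK]
    refine mem_inf.2 ⟨M.pow_mem (hB hx) _, mem_centralizer_iff.2 fun u hu => ?_⟩
    rw [pow_one, pow_two]
    exact (h2 x hx u hu).symm
  have hTB : T ≤ normalizer (B : Set G) := HOne.TvHSide.le_normalizer_of fun t ht y hy => hn t (hTM ht) y hy
  -- a Sylow group `Q ≥ T` of `B T`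
  obtain ⟨Q, hQ2, hTQ, hQM, hQo⟩ := FillA.exists_syl h.T_p (le_sup_right : T ≤ B ⊔ T)
  have hBT : B ⊔ T ≤ M := sup_le hB hTM
  -- `Q ∩ C(r) = T`
  have hQT : ∀ x ∈ Q, x * r = r * x → x ∈ T := by
    intro x hx hxr
    have hTC : T ≤ centralizer ({r} : Set G) := fun t ht => mem_centralizer_singleton_iff.2 (h.T_r t ht)
    have hT1 : T ≤ Q ⊓ centralizer ({r} : Set G) := le_inf hTQ hTC
    have h1 := card_dvd_card hTC h.odd (hQ2.to_le (inf_le_left : Q ⊓ centralizer ({r} : Set G) ≤ Q)) inf_le_right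
    have h3 : T = Q ⊓ centralizer ({r} : Set G) := by
      apply eq_of_le_of_card_ge hT1
      exact Nat.le_of_dvd Nat.card_pos h1
    rw [h3]
    exact mem_inf.2 ⟨hx, mem_centralizer_singleton_iff.2 hxr⟩
  -- `Q ≠ T`
  have hQne : ∃ q ∈ Q, q ∉ T := by
    by_contra hcon
    push Not at hcon
    obtain ⟨s, hs, k, hk, e⟩ := HOne.TvHSide.exists_mul (S := Q) (H := B ⊔ T) (C := K) (K := B) hQ2 hQo
      (hBT.trans hKn) le_sup_left (fun q hq => hTB (hcon q hq)) hsq hb₀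
    apply hb₀r
    rw [e]
    calc s * k * r = s * (k * r) := by group
      _ = (s * r) * k := by rw [hKU k hk r (hVU h.r_mem)]; group
      _ = r * (s * k) := by rw [h.T_r s (hcon s hs)]; group
  -- `w ∈ N_Q(T) - T`
  obtain ⟨w, hwQ, hwN, hwT⟩ : ∃ w ∈ Q, w ∈ normalizer (T : Set G) ∧ w ∉ T := by
    have : Fact (Nat.Prime 2) := ⟨Nat.prime_two⟩
    have : Group.IsNilpotent Q := hQ2.isNilpotent
    have hlt : T.subgroupOf Q < ⊤ := by
      refine lt_top_iff_ne_top.2 fun e => ?_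
      obtain ⟨q, hq, hqT⟩ := hQne
      exact hqT (subgroupOf_eq_top.1 e hq)
    have h1 := Group.normalizerCondition_of_isNilpotent (T.subgroupOf Q) hlt
    obtain ⟨x, hx, hxn⟩ := SetLike.exists_of_lt h1
    refine ⟨x, x.2, ?_, fun h => hxn (mem_subgroupOf.2 h)⟩
    rw [mem_normalizer_iff] at hx ⊢
    intro y
    constructor
    · intro hy
      exact mem_subgroupOf.1 ((hx ⟨y, hTQ hy⟩).1 (mem_subgroupOf.2 hy))
    · intro hy
      have hyQ : y ∈ Q := by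
        have h3 := Q.mul_mem (Q.mul_mem (Q.inv_mem x.2) (hTQ hy)) x.2
        have e : (x : G)⁻¹ * (↑x * y * (↑x)⁻¹) * ↑x = y := by group
        rwa [e] at h3
      exact mem_subgroupOf.1 ((hx ⟨y, hyQ⟩).2 (mem_subgroupOf.2 hy))
  -- wlog `w ∈ B`
  obtain ⟨w, hwB, hwN, hwr⟩ : ∃ w ∈ B, w ∈ normalizer (T : Set G) ∧ w * r ≠ r * w := by
    have h1 : w ∈ (↑(B ⊔ T) : Set G) := hQM hwQ
    rw [coe_mul_of_right_le_normalizer_left _ _ hTB] at h1
    obtain ⟨b, hb, t, ht, rfl⟩ := h1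
    have hbN : b ∈ normalizer (T : Set G) := by
      have h3 := mul_mem hwN (inv_mem (le_normalizer ht))
      simpa using h3
    refine ⟨b, hb, hbN, fun e => hwT ?_⟩
    have hbQ : b ∈ Q := by
      have h3 := Q.mul_mem hwQ (Q.inv_mem (hTQ ht))
      simpa using h3
    exact T.mul_mem (hQT b hbQ e) ht
  have hwM := hB hwB
  -- `[w, t] ∈ T ∩ B` centralises `V`
  have hcomm : ∀ t ∈ T, w * t * w⁻¹ * t⁻¹ ∈ T ∧ w * t * w⁻¹ * t⁻¹ ∈ centralizer (V : Set G) := by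
    intro t ht
    have h1 : w * t * w⁻¹ * t⁻¹ ∈ T := T.mul_mem ((mem_normalizer_iff.1 hwN t).1 ht) (T.inv_mem ht)
    have h3 : w * t * w⁻¹ * t⁻¹ ∈ B := by
      have e : w * t * w⁻¹ * t⁻¹ = w * (t * w⁻¹ * t⁻¹) := by group
      rw [e]
      exact B.mul_mem hwB (hn t (hTM ht) _ (B.inv_mem hwB))
    exact ⟨h1, mem_centralizer_iff.2 fun v hv => (h.cenV hXM hVU hn h2 h1 h3 hv).symm⟩
  obtain ⟨a, ha, b, hb, hab, hzt⟩ := h.zt
  obtain ⟨c, hc⟩ : ∃ c, c = w * b * w⁻¹ := ⟨_, rfl⟩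
  have hcT : c ∈ T := by rw [hc]; exact (mem_normalizer_iff.1 hwN b).1 (h.V_T hb)
  have hcc : c * c = 1 := by
    calc c * c = w * (b * b) * w⁻¹ := by rw [hc]; group
      _ = 1 := by rw [h.V_sq b hb]; group
  have hcs : ∀ t ∈ T, t ∈ centralizer (V : Set G) → t * c = c * t := by
    intro t ht htV
    -- `w⁻¹ t w` centralises `b`
    have h1 : w⁻¹ * t * w ∈ T := by
      have h3 := (mem_normalizer_iff.1 (inv_mem hwN) t).1 ht
      rwa [inv_inv] at h3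
    have h3 := (hcomm _ h1).2
    have e : w * (w⁻¹ * t * w) * w⁻¹ * (w⁻¹ * t * w)⁻¹ = t * (w⁻¹ * t * w)⁻¹ := by group
    rw [e] at h3
    have h4 : w⁻¹ * t * w ∈ centralizer (V : Set G) := by
      have h5 := mul_mem (inv_mem h3) htV
      simpa using h5
    have h5 := mem_centralizer_iff.1 h4 b hb
    calc t * c = w * ((w⁻¹ * t * w) * b) * w⁻¹ := by rw [hc]; group
      _ = w * (b * (w⁻¹ * t * w)) * w⁻¹ := by rw [h5]
      _ = c * t := by rw [hc]; group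
  have hac := hzt c hcT hcc hcs
  -- `k = [w, a]`
  obtain ⟨k, hk⟩ : ∃ k, k = w * a * w⁻¹ * a⁻¹ := ⟨_, rfl⟩
  obtain ⟨hkT, hkV⟩ := hcomm a ha
  rw [← hk] at hkT hkV
  have hkc := hcs k hkT hkV
  have hkr := h.T_r k hkT
  have hkc' : k * c * k⁻¹ = c := by rw [hkc, mul_inv_cancel_right]
  have hkcr : k * (c * r) * k⁻¹ = c * r := by
    calc k * (c * r) * k⁻¹ = (k * c) * r * k⁻¹ := by group
      _ = c * (k * r) * k⁻¹ := by rw [hkc]; group
      _ = c * r := by rw [hkr]; group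
  have e1 : w * r * w⁻¹ = c⁻¹ * (k * (a * c * a⁻¹) * k⁻¹) := by
    have e : r = b⁻¹ * (a * b * a⁻¹) := by rw [hab, inv_mul_cancel_left]
    calc w * r * w⁻¹ = w * (b⁻¹ * (a * b * a⁻¹)) * w⁻¹ := by rw [← e]
      _ = c⁻¹ * (k * (a * c * a⁻¹) * k⁻¹) := by rw [hc, hk]; group
  apply hwr
  rcases hac with h3 | h3
  · rw [h3, hkc', inv_mul_cancel] at e1
    exact absurd (conj_eq_one_iff.1 e1) h.r_ne
  · rw [h3, hkcr, inv_mul_cancel_left] at e1
    exact mul_inv_eq_iff_eq_mul.1 e1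

/-- `B` centralises every subgroup of `⟨r^M⟩` -/
theorem core' [Finite G] (hTM : T ≤ M) (hXM : X ≤ M) (hUM : ∀ m ∈ M, ∀ u ∈ U, m * u * m⁻¹ ∈ U) (hVU : V ≤ U)
    (hB : B ≤ M) (hn : ∀ m ∈ M, ∀ b ∈ B, m * b * m⁻¹ ∈ B)
    (h2 : ∀ b ∈ B, ∀ u ∈ U, b * b * u = u * (b * b)) {b x : G} (hb : b ∈ B)
    (hx : x ∈ closure {x | ∃ m ∈ M, x = m * r * m⁻¹}) : b * x = x * b := by
  have hmain := h.cen hTM hXM hUM hVU hB hn h2
  have h1 : closure {x | ∃ m ∈ M, x = m * r * m⁻¹} ≤ centralizer ({b} : Set G) := by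
    rw [closure_le]
    rintro _ ⟨m, hm, rfl⟩
    rw [SetLike.mem_coe, mem_centralizer_singleton_iff]
    have h3 := hmain _ (hn m⁻¹ (inv_mem hm) b hb)
    calc m * r * m⁻¹ * b = m * (r * (m⁻¹ * b * m⁻¹⁻¹)) * m⁻¹ := by group
      _ = b * (m * r * m⁻¹) := by rw [← h3]; group
  exact (mem_centralizer_singleton_iff.1 (h1 hx)).symm

/-- **`O₂(M/C_M(U)) = 1`, `U = ⟨r^M⟩`** (any description of `U`) -/
theorem core [Finite G] (hTM : T ≤ M) (hXM : X ≤ M) (hU : U = closure {x | ∃ m ∈ M, x = m * r * m⁻¹})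
    (B : Subgroup G) (hB : B ≤ M) (hn : ∀ m ∈ M, ∀ b ∈ B, m * b * m⁻¹ ∈ B)
    (h2 : ∀ b ∈ B, ∀ u ∈ U, b * b * u = u * (b * b)) : ∀ b ∈ B, ∀ u ∈ U, b * u = u * b := by
  have hUM : ∀ m ∈ M, ∀ u ∈ U, m * u * m⁻¹ ∈ U := by
    intro m hm u hu
    rw [hU] at hu ⊢
    induction hu using closure_induction with
    | mem x hx =>
      obtain ⟨g, hg, rfl⟩ := hx
      exact subset_closure ⟨m * g, M.mul_mem hm hg, by group⟩
    | one => rw [mul_one, mul_inv_cancel]; exact one_mem _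
    | mul x y _ _ hx hy =>
      have : m * (x * y) * m⁻¹ = (m * x * m⁻¹) * (m * y * m⁻¹) := by group
      rw [this]; exact mul_mem hx hy
    | inv x _ hx =>
      have : m * x⁻¹ * m⁻¹ = (m * x * m⁻¹)⁻¹ := by group
      rw [this]; exact inv_mem hx
  have hVU : V ≤ U := by
    intro v hv
    by_cases hv1 : v = 1
    · rw [hv1]; exact one_mem _
    obtain ⟨x, hx, hxv⟩ := h.trans v hv hv1
    rw [hU]
    exact subset_closure ⟨x, hXM hx, hxv.symm⟩
  intro b hb u hu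
  rw [hU] at hu
  exact h.core' hTM hXM hUM hVU hB hn h2 hb hu

/-- `⟨R^M⟩`, `R = {1, r}` -/
theorem cl_eq {R : Subgroup G} (hr : ∀ x, x ∈ R ↔ x = 1 ∨ x = r) (M : Subgroup G) :
    cl R M = closure {x | ∃ m ∈ M, x = m * r * m⁻¹} := by
  apply le_antisymm
  · refine cl_le ?_ ?_
    · intro x hx
      rcases (hr x).1 hx with rfl | rfl
      · exact one_mem _
      · exact subset_closure ⟨1, one_mem _, by group⟩
    · refine HOne.TvHSide.le_normalizer_of fun m hm u hu => ?_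
      induction hu using closure_induction with
      | mem x hx =>
        obtain ⟨g, hg, rfl⟩ := hx
        exact subset_closure ⟨m * g, M.mul_mem hm hg, by group⟩
      | one => rw [mul_one, mul_inv_cancel]; exact one_mem _
      | mul x y _ _ hx hy =>
        have : m * (x * y) * m⁻¹ = (m * x * m⁻¹) * (m * y * m⁻¹) := by group
        rw [this]; exact mul_mem hx hy
      | inv x _ hx =>
        have : m * x⁻¹ * m⁻¹ = (m * x * m⁻¹)⁻¹ := by group
        rw [this]; exact inv_mem hx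
  · rw [closure_le]
    rintro _ ⟨m, hm, rfl⟩
    exact conj_mem_of_normalizer (le_normalizer_cl R M hm) (le_cl R M ((hr r).2 (Or.inr rfl)))

/-- **`GSysW M ⟨R^M⟩ r`** (`hsysM` of `AlphaP.not_alpha'`) -/
theorem gsysW [Finite G] {R : Subgroup G} (hr : ∀ x, x ∈ R ↔ x = 1 ∨ x = r) (hTM : T ≤ M) (hXM : X ≤ M)
    (hsq : ∀ x ∈ cl R M, x * x = 1) : GSysW M (cl R M) r := by
  have hnor : ∀ c ∈ M, ∀ n ∈ cl R M, c * n * c⁻¹ ∈ cl R M := fun c hc n hn =>
    conj_mem_of_normalizer (le_normalizer_cl _ _ hc) hn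
  refine ⟨hsq, hnor, le_cl _ _ ((hr r).2 (Or.inr rfl)), h.r_ne, ?_⟩
  intro U hU hCU c hc h2 h3
  exact chain_of_core hsq hnor (h.core hTM hXM (h.cl_eq hr M)) hU hCU hc h2 h3

/-- `GSys M ⟨R^M⟩ r` -/
theorem gsys [Finite G] {R : Subgroup G} (hr : ∀ x, x ∈ R ↔ x = 1 ∨ x = r) (hTM : T ≤ M) (hXM : X ≤ M)
    (hsq : ∀ x ∈ cl R M, x * x = 1) : TV.GSys M (cl R M) r := by
  have h1 := h.gsysW hr hTM hXM hsq
  refine ⟨h1.sq, h1.nor, h1.mem, h1.ne, ?_, h1.chain⟩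
  rw [h.cl_eq hr M]

end OtD

/-- **963's module** `Y = ⟨r₁^C, r₂^C⟩`, `C = C(y) ≥ T, X₂`, `O₂(C) ≤ C(V₂)` -/
theorem exists_Y [Finite G] (hG : IsCharacteristicTwoType G) {T V₂ X₂ : Subgroup G} {r₁ r₂ y : G}
    (h : OtD T V₂ X₂ r₂) (h1T : r₁ ∈ T) (h1s : r₁ * r₁ = 1) (h1n : r₁ ≠ 1) (h1c : ∀ t ∈ T, t * r₁ = r₁ * t)
    (hyy : y * y = 1) (hy1 : y ≠ 1) (hTy : ∀ t ∈ T, t * y = y * t) (hXy : ∀ x ∈ X₂, x * y = y * x)
    (ho : o2 (centralizer ({y} : Set G)) ≤ centralizer (V₂ : Set G)) :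
    ∃ Y ≤ centralizer ({y} : Set G), GSysW (centralizer ({y} : Set G)) Y r₁ := by
  obtain ⟨C, hC⟩ : ∃ C, C = centralizer ({y} : Set G) := ⟨_, rfl⟩
  have hTC : T ≤ C := by rw [hC]; exact fun s hs => mem_centralizer_singleton_iff.2 (hTy s hs)
  have hXC : X₂ ≤ C := by rw [hC]; exact fun s hs => mem_centralizer_singleton_iff.2 (hXy s hs)
  have hloc : TLoc T C := by rw [hC]; exact TLoc.centralizer (by rw [pow_two]; exact hyy) hy1 (hC ▸ hTC)
  rw [← hC] at ho ⊢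
  have hT2 : T ≤ centralizer ({r₂} : Set G) := fun t ht => mem_centralizer_singleton_iff.2 (h.T_r t ht)
  -- `O₂(C) ≤ T`
  have hoT : o2 C ≤ T := by
    have h1 : o2 C ≤ centralizer ({r₂} : Set G) := by
      refine ho.trans (centralizer_le ?_)
      rintro _ rfl
      exact h.r_mem
    have h2 : IsPGroup 2 (o2 C ⊔ T : Subgroup G) :=
      IsPGroup.to_sup_of_normal_left' (ZN.isPGroup_o2 C) h.T_p (hTC.trans (ZN.le_normalizer_o2 C))
    have h3 : o2 C ⊔ T ≤ centralizer ({r₂} : Set G) := sup_le h1 hT2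
    have h4 := card_dvd_card hT2 h.odd h2 h3
    have h5 : T = o2 C ⊔ T := eq_of_le_of_card_ge le_sup_right (Nat.le_of_dvd Nat.card_pos h4)
    rw [h5]; exact le_sup_left
  -- the elements of `T` centralised by `T` are in `Ω₁Z(O₂(C))`
  have hz : ∀ x ∈ T, x * x = 1 → (∀ t ∈ T, t * x = x * t) → x ∈ zc (o2 C) := by
    intro x hx hxx hxT
    have h2 : x ∈ centralizer (o2 C : Set G) := mem_centralizer_iff.2 fun s hs => hxT s (hoT hs)
    have h3 : x ∈ o2 C := hloc.char2 hG ⟨hTC hx, h2⟩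
    exact ZN.mem_zc.2 ⟨h3, fun c hc => mem_centralizer_iff.1 h2 c hc, by rw [pow_two]; exact hxx⟩
  obtain ⟨A, hA⟩ : ∃ A : Subgroup G, A = zpowers r₁ ⊔ zpowers r₂ := ⟨_, rfl⟩
  have hr1A : r₁ ∈ A := by rw [hA]; exact mem_sup_left (mem_zpowers r₁)
  have hr2A : r₂ ∈ A := by rw [hA]; exact mem_sup_right (mem_zpowers r₂)
  have hAz : A ≤ zc (o2 C) := by
    rw [hA]
    refine sup_le (zpowers_le.2 (hz r₁ h1T h1s h1c)) (zpowers_le.2 (hz r₂ (h.V_T h.r_mem) (h.V_sq _ h.r_mem) h.T_r))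
  have h1 : cl A C ≤ zc (o2 C) :=
    cl_le hAz ((Cfsg.Agent.ZN.le_normalizer_o2 _).trans (ZN.normalizer_le_normalizer_zc _))
  have hsq : ∀ x ∈ cl A C, x * x = 1 := fun x hx => by rw [← pow_two]; exact (ZN.mem_zc.1 (h1 hx)).2.2
  have hnor : ∀ c ∈ C, ∀ n ∈ cl A C, c * n * c⁻¹ ∈ cl A C := fun c hc n hn =>
    conj_mem_of_normalizer (le_normalizer_cl _ _ hc) hn
  have hVY : V₂ ≤ cl A C := by
    intro v hv
    by_cases hv1 : v = 1
    · rw [hv1]; exact one_mem _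
    obtain ⟨x, hx, hxv⟩ := h.trans v hv hv1
    rw [← hxv]
    exact hnor x (hXC hx) _ (le_cl A C hr2A)
  refine ⟨cl A C, h1.trans ((ZN.zc_le _).trans (ZN.o2_le _)), hsq, hnor, le_cl _ _ hr1A, h1n, ?_⟩
  intro U hU hCU c hc h2 h3
  refine chain_of_core hsq hnor (fun B hB hn hb2 => ?_) hU hCU hc h2 h3
  -- `B` centralises `r₂`
  have hB2 := h.cen hTC hXC hnor hVY hB hn hb2
  have hBC : B ≤ centralizer ({r₂} : Set G) := fun b hb => mem_centralizer_singleton_iff.2 (hB2 b hb)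
  -- `K = C_C(Y)`
  obtain ⟨K, hK⟩ : ∃ K, K = C ⊓ centralizer (cl A C : Set G) := ⟨_, rfl⟩
  have hKn : C ≤ normalizer (K : Set G) := by
    rw [hK]
    exact HOne.TvHSide.le_normalizer_inf_centralizer (le_normalizer_cl _ _)
  have hodd : ¬ 2 ∣ T.relIndex (C ⊓ centralizer ({r₂} : Set G)) := by
    intro hd
    apply h.odd
    have e : T.relIndex (C ⊓ centralizer ({r₂} : Set G)) * (C ⊓ centralizer ({r₂} : Set G)).relIndex
        (centralizer ({r₂} : Set G)) = T.relIndex (centralizer ({r₂} : Set G)) :=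
      relIndex_mul_relIndex _ _ _ (le_inf hTC hT2) inf_le_right
    rw [← e]
    exact Dvd.dvd.mul_right hd _
  have hB1 : ∀ b ∈ B, b * r₁ = r₁ * b := by
    intro b hb
    obtain ⟨s, hs, k, hk, e⟩ := HOne.TvHSide.exists_mul (S := T) (H := C ⊓ centralizer ({r₂} : Set G)) (C := K)
      (K := B) h.T_p hodd (inf_le_left.trans hKn) (le_inf hB hBC)
      (HOne.TvHSide.le_normalizer_of fun t ht y hy => hn t (hTC ht) y hy) (fun x hx => ⟨1, by
        rw [hK]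
        refine mem_inf.2 ⟨C.pow_mem (hB hx) _, mem_centralizer_iff.2 fun u hu => ?_⟩
        rw [pow_one, pow_two]
        exact (hb2 x hx u hu).symm⟩) hb
    rw [hK] at hk
    have hkr : k * r₁ = r₁ * k := (mem_centralizer_iff.1 hk.2 r₁ (le_cl A C hr1A)).symm
    rw [e]
    calc s * k * r₁ = s * (k * r₁) := by group
      _ = (s * r₁) * k := by rw [hkr]; group
      _ = r₁ * (s * k) := by rw [h1c s hs]; group
  -- `B` centralises `Y`
  intro b hb n hn'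
  have h5 : cl A C ≤ centralizer (B : Set G) := by
    refine cl_le ?_ ?_
    · rw [hA]
      refine sup_le (zpowers_le.2 ?_) (zpowers_le.2 ?_)
      · exact mem_centralizer_iff.2 fun x hx => hB1 x hx
      · exact mem_centralizer_iff.2 fun x hx => hB2 x hx
    · refine HOne.TvHSide.le_normalizer_of fun m hm x hx => mem_centralizer_iff.2 fun u hu => ?_
      have h6 := mem_centralizer_iff.1 hx _ (hn m⁻¹ (inv_mem hm) u hu)
      calc u * (m * x * m⁻¹) = m * ((m⁻¹ * u * m⁻¹⁻¹) * x) * m⁻¹ := by group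
        _ = m * x * m⁻¹ * u := by rw [h6]; group
  exact mem_centralizer_iff.1 (h5 hn') b hb

end Cfsg.Agent.Omega.HT.OtCore

end

section


/-!
# II.0h1, `q = 2`, case (beta): (3) of #15959, no parallels, `S` Sylow in `C(r)` only

`noPar` : `HOne.TvPar.noPar` with the hypothesis `2 ∤ |C(r) : S|` in place of `2 ∤ |M : S|` (the averaging is over
a subgroup of `C_M(r)`).
-/

set_option autoImplicit false
set_option linter.unusedSectionVars false

namespace Cfsg.Agent.Omega.HT.ParC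

open Subgroup Cfsg.Agent.Omega.HOne.TvDef Cfsg.Agent.Omega.HOne.TvPar

variable {G : Type*} [Group G]

variable {M S : Subgroup G} {r t : G} {Q N : G → Subgroup G}

/-- **(3)** no parallels -/
theorem noPar [Finite G] (h : TvH0 M r t Q N) (hSM : S ≤ M) (hSr : ∀ x ∈ S, x * r = r * x)
    (hSt : ∀ x ∈ S, x * t * x⁻¹ = t ∨ x * t * x⁻¹ = r * t) (hNS : N t ≤ S)
    (hodd : ¬ 2 ∣ S.relIndex (centralizer ({r} : Set G)))
    (hcen : ∀ c ∈ UU M r, c ∈ ZC Q r → c ∈ ZC Q t → (∀ x ∈ S, x * c = c * x) → ∀ m ∈ M, m * c = c * m) :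
    ∀ a b, Adj M r t r a → Adj M r t r b → a * b ∈ ZC Q r → b = a ∨ b = r * a := by
  have hrU : r ∈ UU M r := Om_le_UU Om_base
  have htU : t ∈ UU M r := Om_le_UU h.t_Om
  have htt : t * t = 1 := h.Om_sq h.t_Om
  -- `A = N_{M_1}(V K_1)`
  let A : Subgroup G :=
    { carrier := {x | x ∈ M ∧ x * r = r * x ∧ t * (x * t * x⁻¹) ∈ ZC Q r}
      one_mem' := ⟨one_mem _, by simp, by
        have : t * (1 * t * 1⁻¹) = 1 := by rw [one_mul, inv_one, mul_one, htt]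
        rw [this]; exact one_mem _⟩
      mul_mem' := by
        rintro x y ⟨hx, hxr, hxt⟩ ⟨hy, hyr, hyt⟩
        refine ⟨mul_mem hx hy, ?_, ?_⟩
        · calc x * y * r = x * (y * r) := by group
            _ = (x * r) * y := by rw [hyr]; group
            _ = r * (x * y) := by rw [hxr]; group
        · have e : t * (x * y * t * (x * y)⁻¹) =
              (t * (x * t * x⁻¹)) * (x * (t * (y * t * y⁻¹)) * x⁻¹) := by
            calc t * (x * y * t * (x * y)⁻¹) = t * (x * 1 * x⁻¹) * (x * y * t * (x * y)⁻¹) := by group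
              _ = t * (x * (t * t) * x⁻¹) * (x * y * t * (x * y)⁻¹) := by rw [htt]
              _ = _ := by group
          rw [e]
          exact mul_mem hxt ((h.ZC_fix hxr).2 hyt)
      inv_mem' := by
        rintro x ⟨hx, hxr, hxt⟩
        have hxr' : x⁻¹ * r = r * x⁻¹ := by
          calc x⁻¹ * r = x⁻¹ * (r * x) * x⁻¹ := by group
            _ = r * x⁻¹ := by rw [← hxr]; group
        refine ⟨inv_mem hx, hxr', ?_⟩
        have e : t * (x⁻¹ * t * x⁻¹⁻¹) = x⁻¹ * (t * (x * t * x⁻¹))⁻¹ * x⁻¹⁻¹ := by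
          have ht' : t⁻¹ = t := h.UU_inv htU
          calc t * (x⁻¹ * t * x⁻¹⁻¹) = t * x⁻¹ * t * x := by group
            _ = t⁻¹ * x⁻¹ * t⁻¹ * x := by rw [ht']
            _ = x⁻¹ * (x * t⁻¹ * x⁻¹ * t⁻¹) * x := by
                have h1 : t⁻¹ * (x⁻¹ * t⁻¹ * x) = (x⁻¹ * t⁻¹ * x) * t⁻¹ := by
                  have h2 : x⁻¹ * t⁻¹ * x ∈ UU M r := by
                    have := UU_conj (r := r) (inv_mem hx) (inv_mem htU)
                    simpa using this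
                  exact h.UU_comm (inv_mem htU) h2
                calc t⁻¹ * x⁻¹ * t⁻¹ * x = t⁻¹ * (x⁻¹ * t⁻¹ * x) := by group
                  _ = (x⁻¹ * t⁻¹ * x) * t⁻¹ := h1
                  _ = x⁻¹ * (t⁻¹ * (x * t⁻¹ * x⁻¹)) * x := by group
                  _ = x⁻¹ * ((x * t⁻¹ * x⁻¹) * t⁻¹) * x := by
                    rw [h.UU_comm (inv_mem htU) (UU_conj hx (inv_mem htU))]
                  _ = _ := by group
            _ = x⁻¹ * (t * (x * t * x⁻¹))⁻¹ * x⁻¹⁻¹ := by group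
        rw [e]
        exact (h.ZC_fix hxr').2 (inv_mem hxt) }
  let B : Subgroup G :=
    { carrier := {x | x ∈ A ∧ (x * t * x⁻¹ = t ∨ x * t * x⁻¹ = r * t)}
      one_mem' := ⟨one_mem _, Or.inl (by group)⟩
      mul_mem' := by
        rintro x y ⟨hx, hxt⟩ ⟨hy, hyt⟩
        refine ⟨mul_mem hx hy, ?_⟩
        have hxr : x * r = r * x := hx.2.1
        have e : x * y * t * (x * y)⁻¹ = x * (y * t * y⁻¹) * x⁻¹ := by group
        rw [e]
        rcases hyt with h1 | h1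
        · rw [h1]; exact hxt
        · have e2 : x * (r * t) * x⁻¹ = r * (x * t * x⁻¹) := by
            calc x * (r * t) * x⁻¹ = (x * r) * t * x⁻¹ := by group
              _ = _ := by rw [hxr]; group
          rw [h1, e2]
          rcases hxt with h2 | h2
          · right; rw [h2]
          · left; rw [h2, h.mul_cancel Om_base]
      inv_mem' := by
        rintro x ⟨hx, hxt⟩
        refine ⟨inv_mem hx, ?_⟩
        have hxr : x * r = r * x := hx.2.1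
        have hxr' : x⁻¹ * r = r * x⁻¹ := by
          calc x⁻¹ * r = x⁻¹ * (r * x) * x⁻¹ := by group
            _ = r * x⁻¹ := by rw [← hxr]; group
        rcases hxt with h1 | h1
        · left
          calc x⁻¹ * t * x⁻¹⁻¹ = x⁻¹ * (x * t * x⁻¹) * x := by rw [h1]; group
            _ = t := by group
        · right
          have e : x⁻¹ * (r * t) * x = t := by rw [← h1]; group
          calc x⁻¹ * t * x⁻¹⁻¹ = x⁻¹ * (r * (r * t)) * x := by rw [h.mul_cancel Om_base]; group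
            _ = (x⁻¹ * r) * (r * t) * x := by group
            _ = r * (x⁻¹ * (r * t) * x) := by rw [hxr']; group
            _ = r * t := by rw [e] }
  have hSB : S ≤ B := by
    intro x hx
    refine ⟨⟨hSM hx, hSr x hx, ?_⟩, hSt x hx⟩
    rcases hSt x hx with h1 | h1
    · rw [h1, htt]; exact one_mem _
    · have : t * (r * t) = r := by
        calc t * (r * t) = (t * r) * t := by group
          _ = r * (t * t) := by rw [h.UU_comm htU hrU]; group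
          _ = r := by rw [htt, mul_one]
      rw [h1, this]; exact h.mem_ZC Om_base
  have hBA : B ≤ A := fun x hx => hx.1
  have hAM : A ≤ M := fun x hx => hx.1
  have hoddBA : ¬ 2 ∣ B.relIndex A := by
    intro hd
    apply hodd
    have hAC : A ≤ centralizer ({r} : Set G) := fun x hx => mem_centralizer_singleton_iff.2 hx.2.1
    have h1 : S.relIndex A * A.relIndex (centralizer ({r} : Set G)) = S.relIndex (centralizer ({r} : Set G)) :=
      Subgroup.relIndex_mul_relIndex _ _ _ (hSB.trans hBA) hAC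
    have h2 : S.relIndex B * B.relIndex A = S.relIndex A :=
      Subgroup.relIndex_mul_relIndex _ _ _ hSB hBA
    rw [← h1, ← h2]
    exact Dvd.dvd.mul_right (Dvd.dvd.mul_left hd _) _
  obtain ⟨e, heU, heZ, heA⟩ := exists_avg (A := A) (B := B) (U := UU M r) (Z := ZC Q r)
    (fun u hu v hv => h.UU_comm hu hv) hrU htU h.r_sq htt
    (fun x hx u hu => UU_conj (hAM hx) hu) (fun x hx => hx.2.2) (fun x hx => hx.2)
    (fun x hx => hx.2.1) hBA hoddBA
  set c1 := t * e with hc1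
  have hc1U : c1 ∈ UU M r := mul_mem htU heU
  -- `r ∉ ZC t`
  have hrt : r ∉ ZC Q t := h.not_both Adj_base
  -- `[c1, S] ≤ R`
  have hc1S : ∀ x ∈ S, x * c1 * x⁻¹ = c1 ∨ x * c1 * x⁻¹ = r * c1 := by
    intro x hx
    have e1 : x * c1 * x⁻¹ = (x * t * x⁻¹) * (x * e * x⁻¹) := by rw [hc1]; group
    have hrc : t * (r * e) = r * (t * e) := by
      calc t * (r * e) = (t * r) * e := by group
        _ = r * (t * e) := by rw [h.UU_comm htU hrU]; group
    rcases hSt x hx with h1 | h1 <;> rcases heA x (hBA (hSB hx)) with h2 | h2 <;> rw [e1, h1, h2]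
    · left; rfl
    · right; rw [hrc]
    · right; rw [hc1]; group
    · left
      calc r * t * (r * e) = r * (t * (r * e)) := by group
        _ = r * (r * (t * e)) := by rw [hrc]
        _ = t * e := h.mul_cancel Om_base _
  -- `N t` centralises `c1`
  have hc1N : ∀ n ∈ N t, c1 * n = n * c1 := by
    intro n hn
    have h1 := h.comm_KN Adj_base hc1U heZ hn
    rcases hc1S n (hNS hn) with h2 | h2
    · calc c1 * n = (n * c1 * n⁻¹) * n := by rw [h2]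
        _ = _ := by group
    · exfalso
      have ha' : c1⁻¹ = c1 := h.UU_inv hc1U
      have h3 : c1 * n * c1⁻¹ * n⁻¹ = r := by
        calc c1 * n * c1⁻¹ * n⁻¹ = c1 * (n * c1 * n⁻¹) := by rw [ha']; group
          _ = c1 * (r * c1) := by rw [h2]
          _ = (c1 * r) * c1 := by group
          _ = r * (c1 * c1) := by rw [h.UU_comm hc1U hrU]; group
          _ = r := by rw [h.UU_sq hc1U, mul_one]
      rw [h3] at h1
      exact hrt h1.1
  have hc1Q : c1 ∈ Q t := h.UN_at h.t_Om hc1U hc1N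
  -- C_V is S-invariant
  have inv : ∀ x ∈ S, ∀ b, b ∈ ZC Q r → b ∈ ZC Q t → x * b * x⁻¹ ∈ ZC Q t := by
    intro x hx b hb hb'
    have hxr := hSr x hx
    have h2 : x * b * x⁻¹ ∈ ZC Q r := (h.ZC_fix hxr).2 hb
    have h3 : x * b * x⁻¹ ∈ ZC Q (x * t * x⁻¹) := h.ZC_conj.2 hb'
    rcases hSt x hx with h4 | h4
    · rwa [h4] at h3
    · rw [h4] at h3
      have h5 := h.Adj_CV h.Adj_mul_base h2 h3
      rwa [h.mul_cancel Om_base] at h5
  -- `c' = c1` or `r c1` in `C_V`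
  obtain ⟨c', hc'U, hc'r, hc't, hc'1⟩ : ∃ c', c' ∈ UU M r ∧ c' ∈ ZC Q r ∧ c' ∈ ZC Q t ∧
      (c1 = c' ∨ c1 = r * c') := by
    rcases h.Adj_ZQ Adj_base heZ hc1Q with h1 | h1
    · exact ⟨c1, hc1U, heZ, h1, Or.inl rfl⟩
    · exact ⟨r * c1, mul_mem hrU hc1U, mul_mem (h.mem_ZC Om_base) heZ, h1,
        Or.inr (h.mul_cancel Om_base _).symm⟩
  have hc'S : ∀ x ∈ S, x * c' = c' * x := by
    intro x hx
    have hxr := hSr x hx
    have h1 : x * c' * x⁻¹ = c' ∨ x * c' * x⁻¹ = r * c' := by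
      rcases hc'1 with h2 | h2
      · rw [← h2]; exact hc1S x hx
      · have h3 : c' = r * c1 := by rw [h2, h.mul_cancel Om_base]
        have h4 : x * c' * x⁻¹ = r * (x * c1 * x⁻¹) := by
          calc x * c' * x⁻¹ = (x * r) * c1 * x⁻¹ := by rw [h3]; group
            _ = _ := by rw [hxr]; group
        rcases hc1S x hx with h5 | h5
        · left; rw [h4, h5, ← h3]
        · right; rw [h4, h5, ← h3]
    rcases h1 with h2 | h2
    · calc x * c' = (x * c' * x⁻¹) * x := by group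
        _ = c' * x := by rw [h2]
    · exfalso
      have h3 := inv x hx c' hc'r hc't
      rw [h2] at h3
      apply hrt
      have : r = (r * c') * c'⁻¹ := by group
      rw [this]
      exact mul_mem h3 (inv_mem hc't)
  have hc'M := hcen c' hc'U hc'r hc't hc'S
  -- `A` normalises `V`
  have hAB : ∀ y ∈ A, y * t * y⁻¹ = t ∨ y * t * y⁻¹ = r * t := by
    intro y hy
    have hyr : y * r = r * y := hy.2.1
    have hyM := hAM hy
    have hyc1 : y * c1 * y⁻¹ = c1 := by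
      have h1 : y * c' * y⁻¹ = c' := by rw [hc'M y hyM]; group
      rcases hc'1 with h2 | h2
      · rw [h2]; exact h1
      · calc y * c1 * y⁻¹ = (y * r) * c' * y⁻¹ := by rw [h2]; group
          _ = r * (y * c' * y⁻¹) := by rw [hyr]; group
          _ = c1 := by rw [h1, h2]
    have ht : t = c1 * e := by
      have hee : e * e = 1 := h.UU_sq heU
      calc t = t * (e * e) := by rw [hee, mul_one]
        _ = c1 * e := by rw [hc1]; group
    have h3 : y * t * y⁻¹ = c1 * (y * e * y⁻¹) := by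
      calc y * t * y⁻¹ = y * (c1 * e) * y⁻¹ := by rw [← ht]
        _ = (y * c1 * y⁻¹) * (y * e * y⁻¹) := by group
        _ = _ := by rw [hyc1]
    rcases heA y hy with h4 | h4
    · left; rw [h3, h4, ← ht]
    · right
      rw [h3, h4]
      calc c1 * (r * e) = (c1 * r) * e := by group
        _ = r * (c1 * e) := by rw [h.UU_comm hc1U hrU]; group
        _ = r * t := by rw [← ht]
  -- conclusion
  intro a b ha hb hab
  obtain ⟨m, hm, hmr, hma⟩ := ha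
  obtain ⟨l, hl, hlr, hlb⟩ := hb
  have hmr' : m * r = r * m := by
    calc m * r = (m * r * m⁻¹) * m := by group
      _ = r * m := by rw [hmr]
  have hlr' : l * r = r * l := by
    calc l * r = (l * r * l⁻¹) * l := by group
      _ = r * l := by rw [hlr]
  have hmr'' : m⁻¹ * r = r * m⁻¹ := by
    calc m⁻¹ * r = m⁻¹ * (r * m) * m⁻¹ := by group
      _ = r * m⁻¹ := by rw [← hmr']; group
  have hx : m⁻¹ * l ∈ A := by
    refine ⟨mul_mem (inv_mem hm) hl, ?_, ?_⟩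
    · calc m⁻¹ * l * r = m⁻¹ * (l * r) := by group
        _ = (m⁻¹ * r) * l := by rw [hlr']; group
        _ = r * (m⁻¹ * l) := by rw [hmr'']; group
    · have e1 : t * (m⁻¹ * l * t * (m⁻¹ * l)⁻¹) = m⁻¹ * (a * b) * m⁻¹⁻¹ := by
        rw [← hma, ← hlb]; group
      rw [e1]
      exact (h.ZC_fix hmr'').2 hab
  rcases hAB _ hx with h1 | h1
  · left
    have : b = m * (m⁻¹ * l * t * (m⁻¹ * l)⁻¹) * m⁻¹ := by rw [← hlb]; group
    rw [this, h1, hma]
  · right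
    have : b = m * (m⁻¹ * l * t * (m⁻¹ * l)⁻¹) * m⁻¹ := by rw [← hlb]; group
    rw [this, h1]
    calc m * (r * t) * m⁻¹ = (m * r * m⁻¹) * (m * t * m⁻¹) := by group
      _ = r * a := by rw [hmr, hma]

end Cfsg.Agent.Omega.HT.ParC

end

section


/-!
# II.0h1, `q = 2`, over a 2-group `S` of odd index in `N(R o)`: the end without `S` Sylow in `⟨C(Z), X⟩`

`OtD S V X r` (file `OtCore`) replaces `2 ∤ |M₀ : S|`:

* `otD` : `OtD S V X r` from `HTT` and `(zt)`;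
* `core` : `Main.Core V R o r z` for every `z ∈ Z₀#`; `not_alpha` : AlphaP over `S`, with a second line
  `OtD S V₂ X₂ r₂`, `X₂ ≤ C(r) ∩ C(z)`, `O₂(M) ≤ C(V₂)` for `M ≥ S, X₂` of characteristic 2;
* `eq_zpowers` : `JunC.eq_zpowers` without `hodd`;
* `main` : `|Z₀| ≤ 2`, if the elements `c` with `Sig V R o c` are trivial or satisfy `not (alpha)`.
-/

set_option autoImplicit false
set_option linter.unusedSectionVars false

namespace Cfsg.Agent.Omega.HT.EndCore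

open Subgroup Cfsg Cfsg.Agent.ZN Cfsg.Agent.Omega.BTwo Cfsg.Agent.Omega.HT Cfsg.Agent.Omega.HT.EntryTv
open Cfsg.Agent.Omega.HT.EntryTs Cfsg.Agent.Omega.HT.OtCore Cfsg.Agent.Omega.HT.Main
open Cfsg.Agent.Omega.HTwo.Hat Cfsg.Agent.Omega.HTwo.ThmA Cfsg.Agent.Omega.MinPar
open Cfsg.Agent.Omega.HOne.TvDef
open Cfsg.Agent.Omega.HTwo.EntryTv (QF NF ME QF_conj NF_conj NF_base NF_gen cen_zpowers ME_z)
open Cfsg.Agent.Omega.HTwo.AlphaP (MP)
open Cfsg.Agent.Omega.HOneTwo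
open Cfsg.Agent.Omega.HT.TComp (GSysW)
open Cfsg.Agent.Omega.HT.JunAB (MZ)

universe u

variable {G : Type u} [Group G] [Finite G] {ι : Type*} {S P V : Subgroup G}
  {R : ι → Subgroup G} {o : ι}

/-- `OtD` at `o` from `HTT` and `(zt)` -/
theorem otD (b : HTT S P V R o) {r : G} (hr : ∀ x, x ∈ R o ↔ x = 1 ∨ x = r)
    (zt : ∃ a ∈ S, ∃ v ∈ V, a * v * a⁻¹ = v * r ∧ ∀ c ∈ S, c * c = 1 →
      (∀ t ∈ S, t ∈ centralizer (V : Set G) → t * c = c * t) → a * c * a⁻¹ = c ∨ a * c * a⁻¹ = c * r) :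
    OtD S V (XX V R) r where
  T_p := b.S_p
  T_r := fun t ht => (Two.mem_N_iff b hr).1 (b.S_R ht)
  odd := by
    have h1 := b.S_odd
    have e : normalizer (R o : Set G) = centralizer ({r} : Set G) := by
      ext g
      rw [Two.mem_N_iff b hr, mem_centralizer_singleton_iff]
    rwa [e] at h1
  V_T := b.V_le_S
  V_sq := b.V_sq
  V_four := by
    intro v hv hv1 hvr w hw
    have hrV := b.R_le o ((hr r).2 (Or.inr rfl))
    obtain ⟨j, hj⟩ := b.R_cov v hv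
    have hjo : j ≠ o := by
      rintro rfl
      rcases (hr v).1 hj with h | h
      · exact hv1 h
      · exact hvr h
    rcases JunAB.mem_V b hr hjo hj hv1 hw with h | h
    · rcases (hr w).1 h with h | h
      · exact Or.inl h
      · exact Or.inr (Or.inl h)
    · rcases (hr _).1 h with h | h
      · right; right; left
        exact (inv_mul_eq_one.1 h).symm
      · right; right; right
        rw [← h, mul_inv_cancel_left]
  r_mem := b.R_le o ((hr r).2 (Or.inr rfl))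
  r_ne := Two.r_ne b hr
  T_V := b.S_V
  X_V := b.toBTS.X_le_NV
  trans := fun v hv hv1 => Two.exists_conj_X b hr hv hv1
  zt := zt

section

variable (b : HTT S P V R o) {r : G} (hr : ∀ x, x ∈ R o ↔ x = 1 ∨ x = r) (h1 : OtD S V (XX V R) r)
include b hr h1

/-- **`Core` for every `z ∈ Z₀#`** -/
theorem core {z : G} (hz : z ∈ zc S ⊓ centralizer (P : Set G)) : Core V R o r z := by
  intro B hB hn h2
  have hE : zpowers z ≤ zc S ⊓ centralizer (P : Set G) := zpowers_le_cz hz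
  refine h1.core (S_le_ME b hE) (X_le_ME b) ?_ B hB hn h2
  show closure (Om (ME V R o (zpowers z)) r) = _
  congr 1
  ext x
  exact ⟨fun ⟨m, hm, e⟩ => ⟨m, hm, e.symm⟩, fun ⟨m, hm, e⟩ => ⟨m, hm, e.symm⟩⟩

/-- **`GSys` for `M₀`** -/
theorem gsys_MZ {z₀ : G} (hz₀ : z₀ ∈ zc S ⊓ centralizer (P : Set G)) (hz₀1 : z₀ ≠ 1) :
    TV.GSys (MZ S V R) (cl (R o) (MZ S V R)) r := by
  have hUz : cl (R o) (centralizer ({z₀} : Set G)) ≤ zc (o2 (centralizer ({z₀} : Set G))) :=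
    (b.cl_R_eq (b.trans_of_X (b.X_le_cen hz₀))).trans_le (b.cl_V_le (b.isLoc_cen hz₀.1 hz₀1) (b.X_le_cen hz₀))
  have hMz₀ : MZ S V R ≤ centralizer ({z₀} : Set G) := JunAB.MZ_le b hz₀
  have hUle : cl (R o) (MZ S V R) ≤ cl (R o) (centralizer ({z₀} : Set G)) :=
    iSup_le fun m => cj_le_cl (hMz₀ m.2)
  refine h1.gsys hr ?_ le_sup_right fun x hx => ?_
  · exact fun s hs => (le_sup_left : centralizer (zc S : Set G) ≤ MZ S V R)
      (mem_centralizer_iff.2 fun z hz => ((mem_zc.1 hz).2.1 s hs).symm)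
  · rw [← pow_two]; exact (mem_zc.1 (hUz (hUle hx))).2.2

/-- **AlphaP over `S`, with the second line `V₂`** -/
theorem not_alpha (hLE : ∀ i, LE V R i) {z : G} (hz : z ∈ zc S ⊓ centralizer (P : Set G)) (hz1 : z ≠ 1)
    {V₂ X₂ : Subgroup G} {r₂ : G} (h2 : OtD S V₂ X₂ r₂) (hXr : ∀ x ∈ X₂, x * r = r * x)
    (hXz : ∀ x ∈ X₂, x * z = z * x)
    (loc : ∀ M : Subgroup G, S ≤ M → X₂ ≤ M → o2 M ≠ ⊥ → M ⊓ centralizer (o2 M : Set G) ≤ o2 M →
      o2 M ≤ centralizer (V₂ : Set G)) : ¬ UM V (MP V R o z) ≤ QQ (R o) := by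
  have hr1 : r ≠ 1 := Two.r_ne b hr
  have hrR : r ∈ R o := (hr r).2 (Or.inr rfl)
  have hrr : r * r = 1 := b.V_sq r (b.R_le o hrR)
  have hzz : z * z = 1 := by rw [← pow_two]; exact (mem_zc.1 hz.1).2.2
  have hzS : z ∈ S := ZN.zc_le _ hz.1
  have hSz : ∀ s ∈ S, s * z = z * s := (mem_zc.1 hz.1).2.1
  have hSr : ∀ s ∈ S, s * r = r * s := h1.T_r
  have hzr : z * r = r * z := hSr z hzS
  have hne : z * r ≠ 1 := by
    intro e
    have h3 : z = r := by
      calc z = z * (r * r) := by rw [hrr, mul_one]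
        _ = (z * r) * r := by group
        _ = r := by rw [e, one_mul]
    have h4 : z ∈ V ⊓ (zc S ⊓ centralizer (P : Set G)) := ⟨h3 ▸ b.R_le o hrR, hz⟩
    rw [b.R_inf_cz] at h4
    exact hz1 (mem_bot.1 h4)
  have hyy : z * r * (z * r) = 1 := by
    calc z * r * (z * r) = (z * r) * z * r := by group
      _ = r * (z * z) * r := by rw [hzr]; group
      _ = 1 := by rw [hzz, mul_one, hrr]
  have hSy : ∀ s ∈ S, s * (z * r) = z * r * s := fun s hs => by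
    rw [← mul_assoc, hSz s hs, mul_assoc, hSr s hs, mul_assoc]
  have hXy : ∀ s ∈ X₂, s * (z * r) = z * r * s := fun s hs => by
    rw [← mul_assoc, hXz s hs, mul_assoc, hXr s hs, mul_assoc]
  have hSC : S ≤ centralizer ({z * r} : Set G) := fun s hs => mem_centralizer_singleton_iff.2 (hSy s hs)
  have hloc : TLoc S (centralizer ({z * r} : Set G)) :=
    TLoc.centralizer (by rw [pow_two]; exact hyy) hne hSC
  refine Main.not_alpha b hLE hr hz hz1 (core b hr h1 hz) ?_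
  exact OtCore.exists_Y b.char2 h2 (b.V_le_S (b.R_le o hrR)) hrr hr1 hSr hyy hne hSy hXy
    (loc _ hSC (fun x hx => mem_centralizer_singleton_iff.2 (hXy x hx)) hloc.o2_ne (hloc.char2 b.char2))

end

/-- `noPar` for `E = C_Z(P)`, without `hodd` -/
theorem noPar_Z (b : HTT S P V R o) (hLE : ∀ i, LE V R i) {r : G} (hr : ∀ x, x ∈ R o ↔ x = 1 ∨ x = r)
    (hr1 : r ≠ 1) {j : ι} (hj : j ≠ o) {t : G} (ht : ∀ x, x ∈ R j ↔ x = 1 ∨ x = t) (ht1 : t ≠ 1)
    {E : Subgroup G} (hEe : E = zc S ⊓ centralizer (P : Set G)) (hE1 : E ≠ ⊥)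
    (hbeta : ∃ u ∈ UU (ME V R o E) r, u ∉ QF r) :
    ∀ x y, Adj (ME V R o E) r t r x → Adj (ME V R o E) r t r y → x * y ∈ ZC QF r → y = x ∨ y = r * x := by
  have h0 := tvH0 b hLE hr hr1 hEe.le hE1 hj ht ht1 hbeta
  have hS := tvS b hLE hr hr1 hEe.le hE1 hj ht ht1
  have hodd : ¬ 2 ∣ S.relIndex (centralizer ({r} : Set G)) := by
    have h1 := b.S_odd
    have e : normalizer (R o : Set G) = centralizer ({r} : Set G) := by
      ext g
      rw [Two.mem_N_iff b hr, mem_centralizer_singleton_iff]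
    rwa [e] at h1
  refine ParC.noPar h0 hS.S_le hS.S_r hS.S_t hS.N_S hodd ?_
  intro c _ hcr hct hcS m hm
  have h1 := JunC.mem_cenX b hr hj ht hcr hct
  have h2 : c ∈ E := by
    rw [hEe, b.cz_eq]
    refine mem_inf.2 ⟨?_, h1⟩
    have h3 : c ∈ centralizer (QQ (R o) : Set G) := by
      have : c ∈ centralizer (QF r : Set G) := hcr
      rwa [QF_eq b hr] at this
    have h4 : c ∈ QQ (R o) := by
      refine b.cenQ o (mem_inf.2 ⟨?_, h3⟩)
      exact centralizer_le_normalizer _ (centralizer_le ((b.R_le o).trans (b.V_Q o)) h3)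
    refine mem_zc.2 ⟨b.Q_le_S h4, hcS, ?_⟩
    rw [pow_two]
    exact UU_sq b hr hr1 hEe.le hE1 ‹c ∈ UU (ME V R o E) r›
  exact (mem_centralizer_iff.1 (ME_le_cen b hEe.le hm) c h2).symm

/-- not (alpha)₀ implies `|C_Z(P)| = 2`, without `hodd` -/
theorem eq_zpowers (b : HTT S P V R o) (hLE : ∀ i, LE V R i) {r : G} (hr : ∀ x, x ∈ R o ↔ x = 1 ∨ x = r)
    (hr1 : r ≠ 1) {j : ι} (hj : j ≠ o) {t : G} (ht : ∀ x, x ∈ R j ↔ x = 1 ∨ x = t) (ht1 : t ≠ 1)
    {E : Subgroup G} (hEe : E = zc S ⊓ centralizer (P : Set G)) (hα : ¬ UM V (ME V R o E) ≤ QQ (R o))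
    {z : G} (hz : z ∈ E) (hz1 : z ≠ 1) : E = zpowers z := by
  have hE1 : E ≠ ⊥ := fun h => hz1 (by rw [h] at hz; exact mem_bot.1 hz)
  have hbeta := beta_of b hr hr1 hEe.le hα
  have hpar := noPar_Z b hLE hr hr1 hj ht ht1 hEe hE1 hbeta
  obtain ⟨c, hC, hJ⟩ := jend b hLE hr hr1 hEe.le hE1 hj ht ht1 hbeta hpar
  have hc : ∀ y ∈ E, y ≠ 1 → c = y := fun y hy hy1 =>
    c_eq b hLE hr hr1 hEe.le hE1 hj ht ht1 hbeta hpar hC hJ hy hy1
  apply le_antisymm
  · intro y hy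
    by_cases hy1 : y = 1
    · rw [hy1]; exact one_mem _
    · rw [← hc y hy hy1, hc z hz hz1]; exact mem_zpowers z
  · rwa [zpowers_le]

/-- **the end of II.0h1, `q = 2`, over a 2-group, from `OtD`** -/
theorem main (b : HTT S P V R o) (hLE : ∀ i, LE V R i) {r : G} (hr : ∀ x, x ∈ R o ↔ x = 1 ∨ x = r)
    (h1 : OtD S V (XX V R) r)
    (hz : UM V (MZ S V R) ≤ QQ (R o) → ∀ c ∈ zc S ⊓ centralizer (P : Set G), Sig V R o c →
      ∃ z ∈ zc S ⊓ centralizer (P : Set G), z ≠ 1 ∧ (c = 1 ∨ c = z) ∧ ¬ UM V (MP V R o z) ≤ QQ (R o)) :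
    ∀ x ∈ zc S ⊓ centralizer (P : Set G), ∀ y ∈ zc S ⊓ centralizer (P : Set G), x ≠ 1 → y ≠ 1 → x = y := by
  intro x hx y hy hx1 hy1
  have hr1 : r ≠ 1 := Two.r_ne b hr
  obtain ⟨j, k, hj, hk, hjk⟩ := b.one_lt
  obtain ⟨t, ht1, ht2, ht⟩ := b.exists_gen j
  by_cases hα0 : UM V (MZ S V R) ≤ QQ (R o)
  · obtain ⟨c, hc, hsig⟩ := exists_sig b hr hLE (gsys_MZ b hr h1 hx hx1) hx hx1 hα0
    obtain ⟨z, hz, hz1, hcz, hα⟩ := hz hα0 c hc hsig
    have hpar := JunC.noPar_of b hr hz (fun g hg hgz hgV => hsig.norm b hr hc hg (by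
      rcases hcz with rfl | rfl
      · rw [mul_one, one_mul]
      · exact hgz) hgV) hj ht ht1
    have key : ∀ w ∈ zc S ⊓ centralizer (P : Set G), w ≠ 1 → w = z := fun w hw hw1 =>
      (eq_of_ts b hLE hr hr1 hz hz1 hj ht ht1 hα hpar (core b hr h1 hz) hw).resolve_left hw1
    rw [key x hx hx1, key y hy hy1]
  · have hMM : ME V R o (zc S ⊓ centralizer (P : Set G)) = MZ S V R := ME_MZ b
    have h1 := eq_zpowers b hLE hr hr1 hj ht ht1 rfl (by rw [hMM]; exact hα0) hx hx1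
    have h2 : y ∈ zpowers x := by rw [← h1]; exact hy
    have hx2 : x * x = 1 := by rw [← pow_two]; exact (mem_zc.1 hx.1).2.2
    obtain ⟨n, rfl⟩ := h2
    rcases Int.even_or_odd' n with ⟨m, rfl | rfl⟩
    · exfalso
      apply hy1
      show x ^ (2 * m) = 1
      rw [zpow_mul, zpow_two, hx2, one_zpow]
    · show x = x ^ (2 * m + 1)
      rw [zpow_add, zpow_mul, zpow_two, hx2, one_zpow, one_mul, zpow_one]

/-- **WrBig, CASE 1, the end**: `OtD` at the line `V` and at a second line `V₂` over the same `S`; two elements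
`z₀ ≠ z₁` of `Z₀#`, `z₀` centralised by `X₂`; the elements `c` with `Sig V R o c` are trivial. -/
theorem false_of (b : HTT S P V R o) (hLE : ∀ i, LE V R i) {r : G} (hr : ∀ x, x ∈ R o ↔ x = 1 ∨ x = r)
    (h1 : OtD S V (XX V R) r) {z₀ z₁ : G} (hz₀ : z₀ ∈ zc S ⊓ centralizer (P : Set G)) (h0 : z₀ ≠ 1)
    (hz₁ : z₁ ∈ zc S ⊓ centralizer (P : Set G)) (h11 : z₁ ≠ 1) (hne : z₁ ≠ z₀)
    (hc : ∀ c ∈ zc S ⊓ centralizer (P : Set G), Sig V R o c → c = 1)
    {V₂ X₂ : Subgroup G} {r₂ : G} (h2 : OtD S V₂ X₂ r₂) (hXr : ∀ x ∈ X₂, x * r = r * x)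
    (hXz : ∀ x ∈ X₂, x * z₀ = z₀ * x)
    (loc : ∀ M : Subgroup G, S ≤ M → X₂ ≤ M → o2 M ≠ ⊥ → M ⊓ centralizer (o2 M : Set G) ≤ o2 M →
      o2 M ≤ centralizer (V₂ : Set G)) : False := by
  apply hne
  refine main b hLE hr h1 (fun _ c hcc hs => ⟨z₀, hz₀, h0, Or.inl (hc c hcc hs), ?_⟩) z₁ hz₁ z₀ hz₀ h11 h0
  exact not_alpha b hr h1 hLE hz₀ h0 h2 hXr hXz loc

end Cfsg.Agent.Omega.HT.EndCore

end

section


/-!
# II.0h1, `q = 2`, over a 2-group `S`: the abstract end, with `AlphaY` inserted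

`false_of` : `HTT S P V R o`, LEMMA E, `S` of odd index in `⟨C(Ω₁Z(S)), X⟩`, two different elements of `Z₀#`, and for
every `c ∈ Z₀` with `Sig V R o c` an element `z ∈ Z₀#`, `c = 1` or `c = z`, with `Core V R o r z` and
`⟨r^{C(z r)}⟩` centralised by `V`: contradiction.
`false_of_odd` : the same with `S` of odd index in `⟨C(r) ∩ C(z), X⟩` instead of `Core`.
-/

set_option autoImplicit false
set_option linter.unusedSectionVars false

namespace Cfsg.Agent.Omega.HT.Main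

open Subgroup Cfsg Cfsg.Agent.ZN Cfsg.Agent.Omega.BTwo Cfsg.Agent.Omega.HT
open Cfsg.Agent.Omega.HTwo.ThmA (LE)
open Cfsg.Agent.Omega.HTwo.AlphaP (MP)

universe u

variable {G : Type u} [Group G] [Finite G] {ι : Type*} {S P V : Subgroup G}
  {R : ι → Subgroup G} {o : ι}

/-- `V` centralises `⟨r^{C(z r)}⟩` -/
def YV (V : Subgroup G) (r z : G) : Prop :=
  ∀ g : G, g * (z * r) = z * r * g → ∀ v ∈ V, v * (g * r * g⁻¹) = g * r * g⁻¹ * v

/-- odd index in a larger subgroup -/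
theorem odd_of_le {A B : Subgroup G} (hSA : S ≤ A) (hAB : A ≤ B) (h : ¬ 2 ∣ S.relIndex B) :
    ¬ 2 ∣ S.relIndex A := by
  intro h2
  apply h
  rw [← relIndex_mul_relIndex _ _ _ hSA hAB]
  exact h2.mul_right _

/-- **the abstract end over `S`** -/
theorem false_of_y (b : HTT S P V R o) (hLE : ∀ i, LE V R i) {r : G} (hr : ∀ x, x ∈ R o ↔ x = 1 ∨ x = r)
    (hodd : ¬ 2 ∣ S.relIndex (JunAB.MZ S V R))
    (hz : ∀ c ∈ zc S ⊓ centralizer (P : Set G), Sig V R o c →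
      ∃ z ∈ zc S ⊓ centralizer (P : Set G), z ≠ 1 ∧ (c = 1 ∨ c = z) ∧ Core V R o r z ∧ YV V r z)
    {x y : G} (hx : x ∈ zc S ⊓ centralizer (P : Set G)) (hy : y ∈ zc S ⊓ centralizer (P : Set G))
    (hx1 : x ≠ 1) (hy1 : y ≠ 1) (hxy : x ≠ y) : False := by
  refine hxy (main b hLE hr hodd (fun _ c hc hs => ?_) x hx y hy hx1 hy1)
  obtain ⟨z, hz, hz1, hcz, hcore, hY⟩ := hz c hc hs
  exact ⟨z, hz, hz1, hcz, hcore,
    AlphaY.not_alpha b hr hLE hz hz1 (gsys_of_core b hr hz hz1 hcore) hY⟩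

/-- **the abstract end over `S`**, `S` of odd index in `M_z` -/
theorem false_of_odd (b : HTT S P V R o) (hLE : ∀ i, LE V R i) {r : G} (hr : ∀ x, x ∈ R o ↔ x = 1 ∨ x = r)
    (hodd : ¬ 2 ∣ S.relIndex (JunAB.MZ S V R))
    (hz : ∀ c ∈ zc S ⊓ centralizer (P : Set G), Sig V R o c →
      ∃ z ∈ zc S ⊓ centralizer (P : Set G), z ≠ 1 ∧ (c = 1 ∨ c = z) ∧
        ¬ 2 ∣ S.relIndex (MP V R o z) ∧ YV V r z)
    {x y : G} (hx : x ∈ zc S ⊓ centralizer (P : Set G)) (hy : y ∈ zc S ⊓ centralizer (P : Set G))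
    (hx1 : x ≠ 1) (hy1 : y ≠ 1) (hxy : x ≠ y) : False := by
  refine false_of_y b hLE hr hodd (fun c hc hs => ?_) hx hy hx1 hy1 hxy
  obtain ⟨z, hz, hz1, hcz, ho, hY⟩ := hz c hc hs
  exact ⟨z, hz, hz1, hcz, core_of_odd b hr hz hz1 ho, hY⟩

/-- `S ≤ M_z` -/
theorem S_le_MP (b : HTT S P V R o) {z : G} (hz : z ∈ zc S ⊓ centralizer (P : Set G)) : S ≤ MP V R o z := by
  intro s hs
  exact mem_sup_left (mem_inf.2 ⟨b.S_R hs, mem_centralizer_singleton_iff.2 ((mem_zc.1 hz.1).2.1 s hs)⟩)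

end Cfsg.Agent.Omega.HT.Main

end

section


/-!
# LEMMA J, generic parts (bb OMEGA #20002, helper666)

* `Ln.cen_of` : `K` normalised by `X`, `N_K(V)` induces a 2-group on `V = {1, a, b, ab}`: `N_K(V) ≤ C(V)`;
* `loc_of` : `O₂(M) ≤ C(V)` from "`T` has odd index in `T K`";
* `core_of_J` : `Core` (`O₂(M / C_M(U)) = 1`) from the same.
-/

set_option autoImplicit false
set_option linter.unusedSectionVars false

namespace Cfsg.Agent.Omega.HT.LineOf

open Subgroup Cfsg Cfsg.Agent.ZN Cfsg.Agent.Omega.BTwo Cfsg.Agent.Omega.HT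
open Cfsg.Agent.Omega.HT.EntryTv Cfsg.Agent.Omega.HTwo.EntryTv
open Cfsg.Agent.Omega.HOne.TvDef
open Cfsg.Agent.Omega.HOneTwo (cl le_cl le_normalizer_cl UM)

universe u

variable {G : Type u} [Group G]

/-- `g` permutes the points like `σ` -/
def Act (a b : G) (g : G) (σ : Fin 3 → Fin 3) : Prop := ∀ i, g * dd a b i * g⁻¹ = dd a b (σ i)

theorem fun_cases : ∀ σ : Fin 3 → Fin 3, (∀ i j, σ i = σ j → i = j) → (∀ i, σ i = i) ∨ (∀ i, σ (σ (σ i)) = i) ∨
    ∃ i j l, i ≠ j ∧ i ≠ l ∧ j ≠ l ∧ σ i = i ∧ σ j = l ∧ σ l = j := by decide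

theorem mem_of_coprime {H : Subgroup G} {g : G} {m n : ℕ} (hmn : Nat.Coprime m n) (h1 : g ^ m ∈ H) (h2 : g ^ n ∈ H) :
    g ∈ H := by
  obtain ⟨u, v, e⟩ := Nat.isCoprime_iff_coprime.2 hmn
  have : g = (g ^ m) ^ u * (g ^ n) ^ v := by
    rw [← zpow_natCast g m, ← zpow_natCast g n, ← zpow_mul, ← zpow_mul, ← zpow_add, mul_comm (m : ℤ) u,
      mul_comm (n : ℤ) v, e, zpow_one]
  rw [this]
  exact mul_mem (zpow_mem h1 u) (zpow_mem h2 v)

namespace Ln

variable {a b : G} (h : Ln a b)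
include h

theorem exists_act {g : G} (hg : g ∈ normalizer (ln h : Set G)) : ∃ σ, Act a b g σ := by
  have h1 : ∀ i, ∃ j, g * dd a b i * g⁻¹ = dd a b j := by
    intro i
    have h1 : g * dd a b i * g⁻¹ ∈ ln h := BTwo.conj_mem_of_normalizer hg (h.dd_mem i)
    rcases h1 with e | ⟨j, e⟩
    · exact absurd (conj_eq_one_iff.1 e) (h.dd_ne i)
    · exact ⟨j, e⟩
  exact ⟨fun i => (h1 i).choose, fun i => (h1 i).choose_spec⟩

theorem act_inj {g : G} {σ : Fin 3 → Fin 3} (hg : Act a b g σ) : ∀ i j, σ i = σ j → i = j := by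
  intro i j e
  have h1 := (hg i).trans ((congrArg (dd a b) e).trans (hg j).symm)
  exact h.dd_inj (mul_left_cancel (mul_right_cancel h1))

theorem mem_cen_iff {g : G} : g ∈ centralizer (ln h : Set G) ↔ Act a b g id := by
  constructor
  · intro hg i
    rw [← mem_centralizer_iff.1 hg _ (h.dd_mem i)]
    exact mul_inv_cancel_right _ _
  · intro hg
    rw [mem_centralizer_iff]
    rintro x (rfl | ⟨i, rfl⟩)
    · rw [one_mul, mul_one]
    · exact (mul_inv_eq_iff_eq_mul.1 (hg i)).symm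

omit h in
theorem act_mul {g g' : G} {σ σ' : Fin 3 → Fin 3} (hg : Act a b g σ) (hg' : Act a b g' σ') :
    Act a b (g * g') (fun i => σ (σ' i)) := fun i => by
  calc g * g' * dd a b i * (g * g')⁻¹ = g * (g' * dd a b i * g'⁻¹) * g⁻¹ := by group
    _ = dd a b (σ (σ' i)) := by rw [hg' i, hg]

/-- a 3-cycle whose power `2 ^ n` is trivial -/
theorem cen_of_three {g : G} {σ : Fin 3 → Fin 3} (hg : Act a b g σ) (h3 : ∀ i, σ (σ (σ i)) = i) {n : ℕ}
    (hn : g ^ 2 ^ n ∈ centralizer (ln h : Set G)) : g ∈ centralizer (ln h : Set G) := by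
  refine mem_of_coprime (m := 2 ^ n) (n := 3) (Nat.Coprime.pow_left n (by norm_num)) hn ?_
  rw [h.mem_cen_iff]
  have h1 := act_mul (act_mul hg hg) hg
  intro i
  have e : g ^ 3 = g * g * g := by rw [pow_succ, pow_two]
  rw [e, h1 i]
  show dd a b (σ (σ (σ i))) = dd a b i
  rw [h3]

/-- `N_K(V)` centralises `V` -/
theorem cen_of (b' : BT (ln h) (pts a b)) {K : Subgroup G} (hX : XX (ln h) (pts a b) ≤ normalizer (K : Set G))
    (h2 : ∀ g ∈ K, g ∈ normalizer (ln h : Set G) → ∃ n : ℕ, g ^ 2 ^ n ∈ centralizer (ln h : Set G)) {g : G}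
    (hgK : g ∈ K) (hgN : g ∈ normalizer (ln h : Set G)) : g ∈ centralizer (ln h : Set G) := by
  obtain ⟨σ, hσ⟩ := h.exists_act hgN
  obtain ⟨n, hn⟩ := h2 g hgK hgN
  rcases fun_cases σ (h.act_inj hσ) with h0 | h0 | ⟨i, j, l, hij, hil, hjl, e1, e2, e3⟩
  · rw [h.mem_cen_iff]
    intro i
    rw [hσ i, h0 i]
    rfl
  · exact h.cen_of_three hσ h0 hn
  · exfalso
    obtain ⟨y, hy, f1, f2⟩ := b'.trans_X (i := i) (j := j) (k := j) (l := l) hij hjl
    have conv : ∀ {i j : Fin 3}, cj y (pts a b i) = pts a b j → y * dd a b i * y⁻¹ = dd a b j := by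
      intro i j e
      have h1 : y * dd a b i * y⁻¹ ∈ pts a b j := by rw [← e]; exact conj_mem_cj (mem_zpowers _)
      exact (h.mem_pts.1 h1).resolve_left fun e => h.dd_ne i (conj_eq_one_iff.1 e)
    have g1 := conv f1
    have g2 := conv f2
    have g3 : y * dd a b l * y⁻¹ = dd a b i := by
      rw [← h.dd_mul hij hil hjl]
      calc y * (dd a b i * dd a b j) * y⁻¹ = (y * dd a b i * y⁻¹) * (y * dd a b j * y⁻¹) := by group
        _ = dd a b i := by rw [g1, g2]; exact h.dd_mul hjl hij.symm hil.symm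
    have inv : ∀ {i j : Fin 3}, y * dd a b i * y⁻¹ = dd a b j → y⁻¹ * dd a b j * y = dd a b i := by
      intro i j e; rw [← e]; group
    -- the conjugate
    obtain ⟨g', hg'⟩ : ∃ g', g' = y * g * y⁻¹ := ⟨_, rfl⟩
    have hg'K : g' ∈ K := by rw [hg']; exact BTwo.conj_mem_of_normalizer (hX hy) hgK
    have k1 : g' * dd a b j * g'⁻¹ = dd a b j := by
      calc g' * dd a b j * g'⁻¹ = y * (g * (y⁻¹ * dd a b j * y) * g⁻¹) * y⁻¹ := by rw [hg']; group
        _ = dd a b j := by rw [inv g1, hσ, e1, g1]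
    have k2 : g' * dd a b l * g'⁻¹ = dd a b i := by
      calc g' * dd a b l * g'⁻¹ = y * (g * (y⁻¹ * dd a b l * y) * g⁻¹) * y⁻¹ := by rw [hg']; group
        _ = dd a b i := by rw [inv g2, hσ, e2, g3]
    have k3 : g' * dd a b i * g'⁻¹ = dd a b l := by
      calc g' * dd a b i * g'⁻¹ = y * (g * (y⁻¹ * dd a b i * y) * g⁻¹) * y⁻¹ := by rw [hg']; group
        _ = dd a b l := by rw [inv g3, hσ, e3, g2]
    -- the 3-cycle `g g'`
    have m1 : g * g' * dd a b i * (g * g')⁻¹ = dd a b j := by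
      calc g * g' * dd a b i * (g * g')⁻¹ = g * (g' * dd a b i * g'⁻¹) * g⁻¹ := by group
        _ = dd a b j := by rw [k3, hσ, e3]
    have m2 : g * g' * dd a b j * (g * g')⁻¹ = dd a b l := by
      calc g * g' * dd a b j * (g * g')⁻¹ = g * (g' * dd a b j * g'⁻¹) * g⁻¹ := by group
        _ = dd a b l := by rw [k1, hσ, e2]
    have m3 : g * g' * dd a b l * (g * g')⁻¹ = dd a b i := by
      calc g * g' * dd a b l * (g * g')⁻¹ = g * (g' * dd a b l * g'⁻¹) * g⁻¹ := by group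
        _ = dd a b i := by rw [k2, hσ, e1]
    have hg'N : g' ∈ normalizer (ln h : Set G) := by
      rw [hg']
      exact mul_mem (mul_mem (b'.X_le_NV hy) hgN) (inv_mem (b'.X_le_NV hy))
    have hNN : g * g' ∈ normalizer (ln h : Set G) := mul_mem hgN hg'N
    obtain ⟨τ, hτ⟩ := h.exists_act hNN
    obtain ⟨n', hn'⟩ := h2 _ (mul_mem hgK hg'K) hNN
    have t1 : τ i = j := h.dd_inj ((hτ i).symm.trans m1)
    have t2 : τ j = l := h.dd_inj ((hτ j).symm.trans m2)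
    have t3 : τ l = i := h.dd_inj ((hτ l).symm.trans m3)
    have hall : ∀ s : Fin 3, s = i ∨ s = j ∨ s = l := by
      intro s
      by_cases s1 : s = i
      · exact Or.inl s1
      by_cases s2 : s = j
      · exact Or.inr (Or.inl s2)
      · exact Or.inr (Or.inr (third_eq hij.symm hil.symm hjl s1 s2))
    have h3 : ∀ s, τ (τ (τ s)) = s := by
      intro s
      rcases hall s with rfl | rfl | rfl
      · rw [t1, t2, t3]
      · rw [t2, t3, t1]
      · rw [t3, t1, t2]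
    have h4 := h.cen_of_three hτ h3 hn'
    rw [h.mem_cen_iff] at h4
    exact hij (h.dd_inj ((h4 i).symm.trans m1))

end Ln

section J

variable [Finite G] {ι : Type*} {S P V : Subgroup G} {R : ι → Subgroup G} {o : ι}

/-- **`Core` from LEMMA J** -/
theorem core_of_J (b : HTT S P V R o) {r : G} (hr : ∀ x, x ∈ R o ↔ x = 1 ∨ x = r) {z : G}
    (hz : z ∈ zc S ⊓ centralizer (P : Set G))
    (hJ : ∀ K : Subgroup G, S ≤ normalizer (K : Set G) → XX V R ≤ normalizer (K : Set G) →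
      (∀ g ∈ K, ∃ n : ℕ, g ^ 2 ^ n ∈ centralizer (V : Set G)) → ¬ 2 ∣ S.relIndex (S ⊔ K)) :
    Main.Core V R o r z := by
  unfold Main.Core
  intro B hB hn h2
  have hr1 : r ≠ 1 := Two.r_ne b hr
  have hE : zpowers z ≤ zc S ⊓ centralizer (P : Set G) := by rw [zpowers_le]; exact hz
  obtain ⟨M, hM⟩ : ∃ M, M = ME V R o (zpowers z) := ⟨_, rfl⟩
  obtain ⟨U, hU⟩ : ∃ U, U = UU M r := ⟨_, rfl⟩
  rw [← hM] at hB hn h2 ⊢
  rw [← hU] at h2 ⊢
  have hSM : S ≤ M := by rw [hM]; exact S_le_ME b hE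
  have hXM : XX V R ≤ M := by rw [hM]; exact X_le_ME b
  have hMB : M ≤ normalizer (B : Set G) := fun m hm => BTwo.mem_normalizer_of_conj fun x hx => hn m hm x hx
  have hMU : M ≤ normalizer (U : Set G) := fun m hm => BTwo.mem_normalizer_of_conj fun u hu => by
    rw [hU, hM] at hu ⊢
    rw [hM] at hm
    exact M_norm_UU b hr hr1 hE hm hu
  have hVU : V ≤ U := by
    rw [hU, UU_eq b hr hr1 hE hXM]
    exact le_cl _ _
  have hrU : r ∈ U := by rw [hU]; exact Om_le_UU Om_base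
  have hodd := hJ B (hSM.trans hMB) (hXM.trans hMB) fun g hg => ⟨1, by
    rw [pow_one, pow_two, mem_centralizer_iff]
    exact fun v hv => (h2 g hg v (hVU hv)).symm⟩
  have hle : S ⊔ B ≤ M := sup_le hSM hB
  -- `B` centralises `r`
  have key : ∀ x ∈ B, x * r = r * x := by
    intro x hx
    obtain ⟨s, hs, c, hc, rfl⟩ := HOne.TvHSide.exists_mul (H := S ⊔ B) (C := centralizer (U : Set G)) (K := B) b.S_p hodd
      ((hle.trans hMU).trans (normalizer_le_normalizer_centralizer _)) le_sup_right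
      (hSM.trans hMB) (fun y hy => ⟨1, by
        rw [pow_one, pow_two, mem_centralizer_iff]
        exact fun v hv => (h2 y hy v hv).symm⟩) hx
    have hsr : s * r = r * s := by
      have h1 := b.S_R hs
      rw [normalizer_eq b hr] at h1
      exact mem_centralizer_singleton_iff.1 h1
    have hcr : c * r = r * c := (mem_centralizer_iff.1 hc r hrU).symm
    rw [mul_assoc, hcr, ← mul_assoc, hsr, mul_assoc]
  intro x hx u hu
  have hle2 : U ≤ centralizer ({x} : Set G) := by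
    rw [hU]
    show closure (Om M r) ≤ _
    rw [closure_le]
    rintro _ ⟨m, hm, rfl⟩
    refine mem_centralizer_singleton_iff.2 ?_
    have h1 : m⁻¹ * x * m ∈ B := by
      have := hn m⁻¹ (inv_mem hm) x hx
      rwa [inv_inv] at this
    have h3 := key _ h1
    calc m * r * m⁻¹ * x = m * (r * (m⁻¹ * x * m)) * m⁻¹ := by group
      _ = m * (m⁻¹ * x * m * r) * m⁻¹ := by rw [h3]
      _ = x * (m * r * m⁻¹) := by group
  exact (mem_centralizer_singleton_iff.1 (hle2 hu)).symm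

end J

/-- **`loc` from LEMMA J** -/
theorem loc_of [Finite G] {a b : G} (h : Ln a b) (b' : BT (ln h) (pts a b)) {T : Subgroup G} (hT : IsPGroup 2 T)
    (hTV : T ≤ normalizer (ln h : Set G))
    (hJ : ∀ K : Subgroup G, T ≤ normalizer (K : Set G) → XX (ln h) (pts a b) ≤ normalizer (K : Set G) →
      (∀ g ∈ K, ∃ n : ℕ, g ^ 2 ^ n ∈ centralizer (ln h : Set G)) → ¬ 2 ∣ T.relIndex (T ⊔ K)) {M : Subgroup G}
    (hTM : T ≤ M) (hXM : XX (ln h) (pts a b) ≤ M) : o2 M ≤ centralizer (ln h : Set G) := by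
  have hn := le_normalizer_o2 M
  have hp : ∀ g ∈ o2 M, ∃ n : ℕ, g ^ 2 ^ n ∈ centralizer (ln h : Set G) := by
    intro g hg
    obtain ⟨n, e⟩ := (MinSimple.VModule.o2_isPGroup M) ⟨g, hg⟩
    refine ⟨n, ?_⟩
    have e1 : g ^ 2 ^ n = 1 := by simpa using congrArg Subtype.val e
    rw [e1]; exact one_mem _
  have hodd := hJ (o2 M) (hTM.trans hn) (hXM.trans hn) hp
  have h1 : IsPGroup 2 (T ⊔ o2 M : Subgroup G) :=
    IsPGroup.to_sup_of_normal_right' hT (MinSimple.VModule.o2_isPGroup M) (hTM.trans hn)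
  have h2 := card_dvd_card le_sup_left hodd h1 le_rfl
  have h3 : T = T ⊔ o2 M := eq_of_le_of_card_ge le_sup_left (Nat.le_of_dvd Nat.card_pos h2)
  have hle : o2 M ≤ T := le_sup_right.trans h3.symm.le
  intro g hg
  exact h.cen_of b' (hXM.trans hn) (fun g hg _ => hp g hg) hg (hTV (hle hg))

end Cfsg.Agent.Omega.HT.LineOf

end

section


/-!
# (OT) and the instance `HTT` from the data `OtD` of a line over `T`

* `OtD.ot` : `O₂(H)` centralises `V` for every `H ≥ ⟨T, X⟩` (#17249 (OT));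
* `OtD.htt` : `HTT T (T ⊔ X) V R o`, from `BTS V R`, `OtD T V X r`, `X = ⟨W i⟩`, and `Ω₁Z(T) ≤ O₂(C(v))` for `v ∈ V#`;
* `OtD.mem_Z0` : an element of `Ω₁Z(T) ∩ C(X)` lies in `Z₀`;
* `OtD.not_alpha` : not (alpha) for `z ∈ Z₀#` centralised by `X₂`, `OtD T V₂ X₂ r₂`, `X₂ ≤ C(r)`; `OtD.false_of` : the end.
-/

set_option autoImplicit false
set_option linter.unusedSectionVars false

namespace Cfsg.Agent.Omega.HT.OtCore

open Subgroup Cfsg Cfsg.Agent.MinSimple.VModule Cfsg.Agent.Omega.HOneTwo Cfsg.Agent.Omega.HT.TComp Cfsg.Agent.Omega.BTwo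
open Cfsg.Agent.ZN (zc o2 le_normalizer_o2)
open Cfsg.Agent.Omega.HTwo.ThmA (LE)
open Cfsg.Agent.Omega.HTwo.AlphaP (MP)

universe u

variable {G : Type u} [Group G] [Finite G]

namespace OtD

variable {T V X H : Subgroup G} {r : G} (h : OtD T V X r)
include h

theorem V_comm {v w : G} (hv : v ∈ V) (hw : w ∈ V) : v * w = w * v := by
  have h1 := h.V_sq _ (mul_mem hv hw)
  calc v * w = v * w * (v * w) * (w⁻¹ * v⁻¹) := by group
    _ = w⁻¹ * v⁻¹ := by rw [h1, one_mul]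
    _ = w * v := by rw [inv_eq_of_mul_eq_one_left (h.V_sq v hv), inv_eq_of_mul_eq_one_left (h.V_sq w hw)]

theorem V_p : IsPGroup 2 V := by
  rintro ⟨x, hx⟩
  exact ⟨1, Subtype.ext (by simpa [pow_two] using h.V_sq x hx)⟩

/-- a 2-group `E ≤ C(r)` normalised by `T` lies in `T` -/
theorem le_T {E : Subgroup G} (hE : IsPGroup 2 E) (hEr : E ≤ centralizer ({r} : Set G))
    (hTE : T ≤ normalizer (E : Set G)) : E ≤ T := by
  have hT2 : T ≤ centralizer ({r} : Set G) := fun t ht => mem_centralizer_singleton_iff.2 (h.T_r t ht)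
  have h2 : IsPGroup 2 (E ⊔ T : Subgroup G) := IsPGroup.to_sup_of_normal_left' hE h.T_p hTE
  have h4 := card_dvd_card hT2 h.odd h2 (sup_le hEr hT2)
  have h5 : T = E ⊔ T := eq_of_le_of_card_ge le_sup_right (Nat.le_of_dvd Nat.card_pos h4)
  rw [h5]; exact le_sup_left

/-- `X` is transitive on `V#` -/
theorem trans2 {v w : G} (hv : v ∈ V) (hw : w ∈ V) (hv1 : v ≠ 1) (hw1 : w ≠ 1) : ∃ x ∈ X, x * v * x⁻¹ = w := by
  obtain ⟨a, ha, e⟩ := h.trans v hv hv1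
  obtain ⟨b, hb, e'⟩ := h.trans w hw hw1
  refine ⟨b * a⁻¹, mul_mem hb (inv_mem ha), ?_⟩
  calc b * a⁻¹ * v * (b * a⁻¹)⁻¹ = b * (a⁻¹ * v * a) * b⁻¹ := by group
    _ = b * r * b⁻¹ := by rw [← e]; group
    _ = w := e'

/-- a 2-subgroup of `N(V)` normalised by `X` centralises `V` -/
theorem cen_of_norm {N : Subgroup G} (hN2 : IsPGroup 2 N) (hNV : N ≤ normalizer (V : Set G))
    (hXN : X ≤ normalizer (N : Set G)) : N ≤ centralizer (V : Set G) := by
  obtain ⟨w, hw, hw1, -, hwN⟩ := exists_inv hN2 h.V_p (fun h0 => h.r_ne (by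
    have := h.r_mem
    rwa [h0, mem_bot] at this)) hNV
  intro x hx
  rw [mem_centralizer_iff]
  intro u hu
  by_cases hu1 : u = 1
  · rw [hu1, one_mul, mul_one]
  obtain ⟨d, hd, hdu⟩ := h.trans2 hw hu hw1 hu1
  have h1 : d⁻¹ * x * d ∈ N := by
    have := (mem_normalizer_iff.1 (hXN (inv_mem hd)) x).1 hx
    rwa [inv_inv] at this
  have h2 := hwN _ h1
  rw [← hdu]
  calc d * w * d⁻¹ * x = d * (w * (d⁻¹ * x * d)) * d⁻¹ := by group
    _ = x * (d * w * d⁻¹) := by rw [h2]; group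

/-- **(OT)** of #17249: `O₂(H)` centralises `V` for every `H ≥ ⟨T, X⟩`. -/
theorem ot (hTH : T ≤ H) (hXH : X ≤ H) : o2 H ≤ centralizer (V : Set G) := by
  have hfact : Fact (Nat.Prime 2) := ⟨Nat.prime_two⟩
  have hO2 : IsPGroup 2 (o2 H) := ZN.isPGroup_o2 H
  have hHO := ZN.le_normalizer_o2 H
  have conj : ∀ {A B : Subgroup G}, A ≤ normalizer (B : Set G) → ∀ {a b : G}, a ∈ A → b ∈ B → a * b * a⁻¹ ∈ B :=
    fun {A B} hAB {a b} ha hb => (mem_normalizer_iff.1 (hAB ha) b).1 hb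
  have norm : ∀ {A B : Subgroup G}, (∀ a ∈ A, ∀ b ∈ B, a * b * a⁻¹ ∈ B) → A ≤ normalizer (B : Set G) :=
    fun {A B} hAB => HOne.TvHSide.le_normalizer_of hAB
  -- `O ∩ N(V)` centralises `V`
  have hN : o2 H ⊓ normalizer (V : Set G) ≤ centralizer (V : Set G) := by
    refine h.cen_of_norm (hO2.to_le inf_le_left) inf_le_right (norm fun d hd x hx => ⟨conj hHO (hXH hd) hx.1, ?_⟩)
    exact mul_mem (mul_mem (h.X_V hd) hx.2) ((normalizer (V : Set G)).inv_mem (h.X_V hd))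
  obtain ⟨O₀, hO₀⟩ : ∃ O₀, O₀ = o2 H ⊓ centralizer (V : Set G) := ⟨_, rfl⟩
  have hcV : normalizer (V : Set G) ≤ normalizer (centralizer (V : Set G) : Set G) :=
    normalizer_le_normalizer_centralizer V
  have hTO₀ : T ≤ normalizer (O₀ : Set G) := by
    refine norm fun t ht x hx => ?_
    rw [hO₀] at hx ⊢
    exact ⟨conj hHO (hTH ht) hx.1, (mem_normalizer_iff.1 (hcV (h.T_V ht)) x).1 hx.2⟩
  have hT0 : ∀ x ∈ o2 H, x * r = r * x → x ∈ O₀ ∧ x ∈ T := by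
    have hle : o2 H ⊓ centralizer ({r} : Set G) ≤ T := by
      refine h.le_T (hO2.to_le inf_le_left) inf_le_right (norm fun t ht x hx => ⟨conj hHO (hTH ht) hx.1, ?_⟩)
      have ht' : t ∈ centralizer ({r} : Set G) := mem_centralizer_singleton_iff.2 (h.T_r t ht)
      exact mul_mem (mul_mem ht' hx.2) ((centralizer ({r} : Set G)).inv_mem ht')
    intro x hx hxv
    have h1 : x ∈ T := hle ⟨hx, mem_centralizer_singleton_iff.2 hxv⟩
    rw [hO₀]
    exact ⟨⟨hx, hN ⟨hx, h.T_V h1⟩⟩, h1⟩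
  have hO₀V : O₀ ≤ centralizer (V : Set G) := by rw [hO₀]; exact inf_le_right
  have hO₀T : O₀ ≤ T := fun x hx =>
    (hT0 x (by rw [hO₀] at hx; exact hx.1) (mem_centralizer_iff.1 (hO₀V hx) r h.r_mem).symm).2
  -- suppose `O > O_0`
  by_contra hcon
  have hlt : O₀ < o2 H := by
    refine lt_of_le_of_ne (by rw [hO₀]; exact inf_le_left) fun e => hcon ?_
    rw [← e]
    exact hO₀V
  have hlt2 := Lib.GoldschmidtFusion.lt_inf_normalizer hO2 hlt
  obtain ⟨w, hw, hwO₀, hwT⟩ := HOne.TvThirteen.exists_fixed_mod (S := T)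
    (B := o2 H ⊓ normalizer (O₀ : Set G)) (A := O₀) h.T_p (hO2.to_le inf_le_left)
    (fun t ht x hx => ⟨conj hHO (hTH ht) hx.1, mul_mem (mul_mem (hTO₀ ht) hx.2)
      ((normalizer (O₀ : Set G)).inv_mem (hTO₀ ht))⟩) (fun t ht x hx => conj hTO₀ ht hx)
    (fun t ht x hx => (mem_normalizer_iff.1 ht.2 x).1 hx) (not_le_of_gt hlt2)
  have hwn : w ∈ normalizer (O₀ : Set G) := hw.2
  have hwn' : ∀ x ∈ O₀, w⁻¹ * x * w ∈ O₀ := fun x hx => by
    have := (mem_normalizer_iff.1 (inv_mem hwn) x).1 hx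
    rwa [inv_inv] at this
  -- `T_* := C_T(V)`
  obtain ⟨Ts, hTs⟩ : ∃ Ts, Ts = T ⊓ centralizer (V : Set G) := ⟨_, rfl⟩
  have hO₀Ts : O₀ ≤ Ts := by rw [hTs]; exact le_inf hO₀T hO₀V
  have hTsT : Ts ≤ T := by rw [hTs]; exact inf_le_left
  have hTsV : Ts ≤ centralizer (V : Set G) := by rw [hTs]; exact inf_le_right
  have hTsw : ∀ t ∈ Ts, w⁻¹ * t * w ∈ Ts := by
    intro t ht
    have h1 : t⁻¹ * w * t * w⁻¹ ∈ O₀ := by
      have := hwT t⁻¹ (inv_mem (hTsT ht))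
      rwa [inv_inv] at this
    have h2 := hwn' _ h1
    have e : w⁻¹ * t * w = t * (w⁻¹ * (t⁻¹ * w * t * w⁻¹) * w)⁻¹ := by group
    rw [e]
    exact mul_mem ht (inv_mem (hO₀Ts h2))
  have hTsw' : ∀ t ∈ Ts, w * t * w⁻¹ ∈ Ts := by
    intro t ht
    have h1 := hwT t (hTsT ht)
    have e : w * t * w⁻¹ = (t * w * t⁻¹ * w⁻¹)⁻¹ * t := by group
    rw [e]
    exact mul_mem (inv_mem (hO₀Ts h1)) ht
  have hVTs : V ≤ Ts := by
    rw [hTs]
    exact le_inf h.V_T fun x hx => mem_centralizer_iff.2 fun u hu => h.V_comm hu hx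
  obtain ⟨a, ha, b, hb, hab, hz⟩ := h.zt
  -- `c = b^w`
  obtain ⟨c, hc⟩ : ∃ c, c = w * b * w⁻¹ := ⟨_, rfl⟩
  have hcTs : c ∈ Ts := by rw [hc]; exact hTsw' b (hVTs hb)
  have hcc : ∀ t ∈ T, t ∈ centralizer (V : Set G) → t * c = c * t := by
    intro t ht htV
    have h1 := mem_centralizer_iff.1 (hTsV (hTsw t (by rw [hTs]; exact ⟨ht, htV⟩))) b hb
    rw [hc]
    calc t * (w * b * w⁻¹) = w * ((w⁻¹ * t * w) * b) * w⁻¹ := by group
      _ = w * b * w⁻¹ * t := by rw [← h1]; group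
  have ho : w * a * w⁻¹ * a⁻¹ ∈ O₀ := by
    have h1 := inv_mem (hwT a ha)
    have e : (a * w * a⁻¹ * w⁻¹)⁻¹ = w * a * w⁻¹ * a⁻¹ := by group
    rwa [e] at h1
  have hOc : ∀ o ∈ O₀, o * c = c * o := fun o ho => hcc o (hO₀T ho) (hO₀V ho)
  have hOr : ∀ o ∈ O₀, o * r = r * o := fun o ho => (mem_centralizer_iff.1 (hO₀V ho) r h.r_mem).symm
  have key : w * r * w⁻¹ = c⁻¹ * ((w * a * w⁻¹ * a⁻¹) * (a * c * a⁻¹) * (w * a * w⁻¹ * a⁻¹)⁻¹) := by
    have e : r = b⁻¹ * (a * b * a⁻¹) := by rw [hab, inv_mul_cancel_left]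
    calc w * r * w⁻¹ = w * (b⁻¹ * (a * b * a⁻¹)) * w⁻¹ := by rw [← e]
      _ = _ := by rw [hc]; group
  have hcc1 : c * c = 1 := by
    calc c * c = w * (b * b) * w⁻¹ := by rw [hc]; group
      _ = 1 := by rw [h.V_sq b hb]; group
  rcases hz c (hTsT hcTs) hcc1 hcc with h1 | h1
  · rw [h1, hOc _ ho, mul_inv_cancel_right, inv_mul_cancel] at key
    exact h.r_ne (by
      calc r = w⁻¹ * (w * r * w⁻¹) * w := by group
        _ = 1 := by rw [key]; group)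
  · rw [h1] at key
    have h2 : (w * a * w⁻¹ * a⁻¹) * (c * r) = c * r * (w * a * w⁻¹ * a⁻¹) := by
      calc (w * a * w⁻¹ * a⁻¹) * (c * r) = ((w * a * w⁻¹ * a⁻¹) * c) * r := by group
        _ = c * ((w * a * w⁻¹ * a⁻¹) * r) := by rw [hOc _ ho]; group
        _ = _ := by rw [hOr _ ho]; group
    rw [h2, mul_inv_cancel_right, inv_mul_cancel_left] at key
    exact hwO₀ (hT0 w hw.1 (mul_inv_eq_iff_eq_mul.1 key)).1

end OtD

section inst

variable {T V : Subgroup G} {r : G} {ι : Type*} {R : ι → Subgroup G} {o : ι}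

/-- the subgroups `R i` have order 2 -/
theorem OtD.card_R (b : BT V R) (hr : ∀ x, x ∈ R o ↔ x = 1 ∨ x = r) (hr1 : r ≠ 1) (i : ι) : Nat.card (R i) = 2 := by
  obtain ⟨x, -, hx⟩ := b.trans_X_one o i
  rw [← hx, card_cj]
  have e : (R o : Set G) = {1, r} := by
    ext y
    simp only [SetLike.mem_coe, Set.mem_insert_iff, Set.mem_singleton_iff]
    exact hr y
  have h1 : ((R o : Subgroup G) : Set G).ncard = 2 := by rw [e, Set.ncard_pair (Ne.symm hr1)]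
  exact h1

/-- `N(R i) = C(v)` for `1 ≠ v ∈ R i` -/
theorem OtD.normalizer_R {A : Subgroup G} (hA : Nat.card A = 2) {v : G} (hv : v ∈ A) (hv1 : v ≠ 1) :
    normalizer (A : Set G) = centralizer ({v} : Set G) := by
  apply le_antisymm
  · intro g hg
    have h2 := normalizer_le_cen_of_card hA hg
    exact mem_centralizer_singleton_iff.2 (mem_centralizer_iff.1 h2 v hv).symm
  · intro g hg
    refine centralizer_le_normalizer _ (mem_centralizer_iff.2 fun y hy => ?_)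
    by_cases hy1 : y = 1
    · rw [hy1, one_mul, mul_one]
    · rw [eq_of_card_two hA hv hv1 hy hy1]
      exact (mem_centralizer_singleton_iff.1 hg).symm

/-- **The instance `HTT` from `OtD`.** `zq` : `Ω₁Z(T) ≤ O₂(C(v))` for `v ∈ V#`. -/
theorem OtD.htt (b : BTS V R) (hr : ∀ x, x ∈ R o ↔ x = 1 ∨ x = r) (h : OtD T V (XX V R) r)
    (hc : IsCharacteristicTwoType G) (zq : ∀ v ∈ V, v ≠ 1 → zc T ≤ o2 (centralizer ({v} : Set G))) :
    HTT T (T ⊔ XX V R) V R o where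
  toBT := b.toBT
  card_R := OtD.card_R b.toBT hr h.r_ne
  char2 := hc
  S_p := h.T_p
  S_odd := by
    rw [OtD.normalizer_R (OtD.card_R b.toBT hr h.r_ne o) ((hr r).2 (Or.inr rfl)) h.r_ne]
    exact h.odd
  S_V := h.T_V
  S_R := by
    rw [OtD.normalizer_R (OtD.card_R b.toBT hr h.r_ne o) ((hr r).2 (Or.inr rfl)) h.r_ne]
    exact fun t ht => mem_centralizer_singleton_iff.2 (h.T_r t ht)
  S_P := le_sup_left
  P_V := sup_le h.T_V b.X_le_NV
  P_trans j := by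
    obtain ⟨x, hx, e⟩ := b.toBT.trans_X_one o j
    exact ⟨x, mem_sup_right hx, e⟩
  P_Z x hx z hz := by
    have h1 : T ⊔ XX V R ≤ cenMod V (zc T) := by
      refine sup_le (fun t ht => ⟨h.T_V ht, fun z hz => ?_⟩) (iSup_le fun j w hw => ⟨b.W_le_NV j hw, fun z hz => ?_⟩)
      · rw [((ZN.mem_zc.1 hz).2.1 t ht), mul_inv_cancel_right, mul_inv_cancel]
        exact one_mem _
      · obtain ⟨v, hv, hv1⟩ := b.exists_ne j
        have hzQ : z ∈ QQ (R j) := by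
          change z ∈ o2 (normalizer (R j : Set G))
          rw [OtD.normalizer_R (OtD.card_R b.toBT hr h.r_ne j) hv hv1]
          exact zq v (b.R_le j hv) hv1 hz
        have h3 := b.WQ j hzQ hw
        have e : w * z * w⁻¹ * z⁻¹ = (z * w * z⁻¹ * w⁻¹)⁻¹ := by group
        rw [e]
        exact inv_mem (b.R_le j h3)
    exact (h1 hx).2 z hz
  loc _ hT hX _ _ := h.ot hT hX

/-- an element of `Ω₁Z(T) ∩ C(X)` lies in `Z₀` -/
theorem OtD.mem_Z0 {z : G} (hz : z ∈ zc T) (hX : z ∈ CenX V R) :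
    z ∈ zc T ⊓ centralizer ((T ⊔ XX V R : Subgroup G) : Set G) := by
  refine ⟨hz, ?_⟩
  have h2 : T ⊔ XX V R ≤ centralizer ({z} : Set G) :=
    sup_le (fun t ht => mem_centralizer_singleton_iff.2 ((ZN.mem_zc.1 hz).2.1 t ht)) fun x hx =>
      mem_centralizer_singleton_iff.2 (mem_centralizer_iff.1 hX x hx)
  exact mem_centralizer_iff.2 fun x hx => mem_centralizer_singleton_iff.1 (h2 hx)

/-- **not (alpha)** for `z ∈ Z₀#` centralised by `X₂` : `OtD` at a second line `V₂`, `X₂ ≤ C(r)`. -/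
theorem OtD.not_alpha (b : BTS V R) (hr : ∀ x, x ∈ R o ↔ x = 1 ∨ x = r) (h : OtD T V (XX V R) r)
    (hc : IsCharacteristicTwoType G) (zq : ∀ v ∈ V, v ≠ 1 → zc T ≤ o2 (centralizer ({v} : Set G)))
    (hLE : ∀ i, LE V R i) {z : G} (hz : z ∈ zc T) (hzX : z ∈ CenX V R) (hz1 : z ≠ 1)
    {V₂ X₂ : Subgroup G} {r₂ : G} (h2 : OtD T V₂ X₂ r₂) (hXr : ∀ x ∈ X₂, x * r = r * x)
    (hXz : ∀ x ∈ X₂, x * z = z * x) : ¬ UM V (MP V R o z) ≤ QQ (R o) :=
  EndCore.not_alpha (OtD.htt b hr h hc zq) hr h hLE (OtD.mem_Z0 hz hzX) hz1 h2 hXr hXz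
    fun _ hT hX _ _ => h2.ot hT hX

/-- **the end**: two lines `V`, `V₂` over `T`; `z₀ ≠ z₁` in `Z₀#`, `z₀` centralised by `X₂`; for every `c ∈ Z₀` with
`Sig V R o c`: `c = 1`, or `c` is centralised by `X₂`. -/
theorem OtD.false_of (b : BTS V R) (hr : ∀ x, x ∈ R o ↔ x = 1 ∨ x = r) (h : OtD T V (XX V R) r)
    (hc : IsCharacteristicTwoType G) (zq : ∀ v ∈ V, v ≠ 1 → zc T ≤ o2 (centralizer ({v} : Set G)))
    (hLE : ∀ i, LE V R i) {z₀ z₁ : G} (hz₀ : z₀ ∈ zc T) (hz₀X : z₀ ∈ CenX V R) (h0 : z₀ ≠ 1)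
    (hz₁ : z₁ ∈ zc T) (hz₁X : z₁ ∈ CenX V R) (h1 : z₁ ≠ 1) (hne : z₁ ≠ z₀)
    {V₂ X₂ : Subgroup G} {r₂ : G} (h2 : OtD T V₂ X₂ r₂) (hXr : ∀ x ∈ X₂, x * r = r * x)
    (hXz : ∀ x ∈ X₂, x * z₀ = z₀ * x)
    (hcc : ∀ c ∈ zc T, c ∈ CenX V R → Sig V R o c → c = 1 ∨ ∀ x ∈ X₂, x * c = c * x) : False := by
  have hna : ∀ {z : G}, z ∈ zc T → z ∈ CenX V R → z ≠ 1 → (∀ x ∈ X₂, x * z = z * x) →
      ¬ UM V (MP V R o z) ≤ QQ (R o) := fun hz hzX hz1 hXz =>
    OtD.not_alpha b hr h hc zq hLE hz hzX hz1 h2 hXr hXz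
  apply hne
  refine EndCore.main (OtD.htt b hr h hc zq) hLE hr h (fun _ c hcz hs => ?_) z₁ (OtD.mem_Z0 hz₁ hz₁X) z₀
    (OtD.mem_Z0 hz₀ hz₀X) h1 h0
  have hcX : c ∈ CenX V R := centralizer_le (fun x hx => mem_sup_right hx) hcz.2
  rcases hcc c hcz.1 hcX hs with h3 | h3
  · exact ⟨z₀, OtD.mem_Z0 hz₀ hz₀X, h0, Or.inl h3, hna hz₀ hz₀X h0 hXz⟩
  · by_cases h4 : c = 1
    · exact ⟨z₀, OtD.mem_Z0 hz₀ hz₀X, h0, Or.inl h4, hna hz₀ hz₀X h0 hXz⟩
    · exact ⟨c, hcz, h4, Or.inr rfl, hna hcz.1 hcX h4 h3⟩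

end inst

end Cfsg.Agent.Omega.HT.OtCore

end

end
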